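import Mathlib

/-!
# Groups of order 320 (centralizer of an involution in `PSU₃(4)`), part 1

A cardinality bound for a subgroup extended by one element normalizing it.
-/

set_option autoImplicit false

namespace Cfsg.Agent.Lib.Helper5.C320

variable {G : Type*} [Group G]

/-- Adjoining to a finite subgroup `H` an element `g` normalizing it with `g ^ n ∈ H` multiplies the
order by at most `n`. -/
theorem card_sup_zpowers_le (H : Subgroup G) [Finite H] (g : G) (n : ℕ) (hn : 0 < n)
    (hnorm : g ∈ Subgroup.normalizer (H : Set G)) (hpow : g ^ n ∈ H) :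
    Finite ↥(H ⊔ Subgroup.zpowers g) ∧ Nat.card ↥(H ⊔ Subgroup.zpowers g) ≤ n * Nat.card H := by
  classical
  let f : Fin n × H → G := fun p => g ^ (p.1 : ℕ) * (p.2 : G)
  have hsub : ((H ⊔ Subgroup.zpowers g : Subgroup G) : Set G) ⊆ Set.range f := by
    intro y hy
    have hle : Subgroup.zpowers g ≤ Subgroup.normalizer (H : Set G) := by
      rw [Subgroup.zpowers_le]; exact hnorm
    rw [sup_comm, SetLike.mem_coe, ← SetLike.mem_coe,
      Subgroup.coe_mul_of_left_le_normalizer_right _ _ hle] at hy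
    obtain ⟨z, hz, h, hh, rfl⟩ := hy
    obtain ⟨m, rfl⟩ := Subgroup.mem_zpowers_iff.mp hz
    have hnz : (n : ℤ) ≠ 0 := by exact_mod_cast hn.ne'
    have hr0 : 0 ≤ m % (n : ℤ) := Int.emod_nonneg m hnz
    have hrn : m % (n : ℤ) < n := Int.emod_lt_of_pos m (by exact_mod_cast hn)
    obtain ⟨r, hr⟩ := Int.eq_ofNat_of_zero_le hr0
    have hrn' : r < n := by
      have : (r : ℤ) < n := by rw [← hr]; exact hrn
      exact_mod_cast this
    have hdecomp : g ^ m = g ^ r * (g ^ n) ^ (m / (n : ℤ)) := by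
      have h1 : m = (r : ℤ) + (n : ℤ) * (m / (n : ℤ)) := by
        rw [← hr]; exact (Int.emod_add_mul_ediv m n).symm
      conv_lhs => rw [h1]
      rw [zpow_add, zpow_mul, zpow_natCast, zpow_natCast]
    refine ⟨(⟨r, hrn'⟩, ⟨(g ^ n) ^ (m / (n : ℤ)) * h, H.mul_mem (H.zpow_mem hpow _) hh⟩), ?_⟩
    simp only [f]
    rw [hdecomp, mul_assoc]
  have hfin : ((H ⊔ Subgroup.zpowers g : Subgroup G) : Set G).Finite :=
    (Set.finite_range f).subset hsub
  refine ⟨hfin.to_subtype, ?_⟩
  calc Nat.card ↥(H ⊔ Subgroup.zpowers g)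
      = ((H ⊔ Subgroup.zpowers g : Subgroup G) : Set G).ncard := rfl
    _ ≤ (Set.range f).ncard := Set.ncard_le_ncard hsub (Set.finite_range f)
    _ ≤ Nat.card (Fin n × H) := by
        rw [← Set.image_univ]
        exact (Set.ncard_image_le (Set.finite_univ)).trans (by rw [Set.ncard_univ])
    _ = n * Nat.card H := by rw [Nat.card_prod, Nat.card_fin]

end Cfsg.Agent.Lib.Helper5.C320
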