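import Mathlib
import Cfsg.Agent.Lib.Helper5.C320.A1

/-!
# Groups of order 320, part 2: the defining relations bound the order by 320
-/

set_option autoImplicit false

namespace Cfsg.Agent.Lib.Helper5.C320

variable {G : Type*} [Group G]

/-- the conjugate `s ^ i * x * s ^ (-i)` -/
def xc (s x : G) (i : ℕ) : G := s ^ i * x * (s ^ i)⁻¹

/-- the commutator of `x` and `s x s⁻¹` -/
def cc1 (s x : G) : G := x * xc s x 1 * x⁻¹ * (xc s x 1)⁻¹

/-- the commutator of `x` and `s² x s⁻²` -/
def cc2 (s x : G) : G := x * xc s x 2 * x⁻¹ * (xc s x 2)⁻¹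

/-- the relations satisfied by suitable generators of the centralizer of an involution of `PSU₃(4)` -/
structure Rel (s x : G) : Prop where
  s5 : s ^ 5 = 1
  c1s : cc1 s x * s = s * cc1 s x
  c1x : cc1 s x * x = x * cc1 s x
  c2s : cc2 s x * s = s * cc2 s x
  c2x : cc2 s x * x = x * cc2 s x
  c1sq : cc1 s x ^ 2 = 1
  c2sq : cc2 s x ^ 2 = 1
  xsq : x ^ 2 = cc1 s x * cc2 s x
  x4 : xc s x 4 = x * xc s x 1 * xc s x 2 * xc s x 3

theorem xc_zero (s x : G) : xc s x 0 = x := by simp [xc]

theorem xc_add (s x : G) (i j : ℕ) : xc s x (i + j) = s ^ i * xc s x j * (s ^ i)⁻¹ := by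
  simp only [xc, pow_add, mul_inv_rev]; group

theorem xc_succ (s x : G) (j : ℕ) : xc s x (j + 1) = s * xc s x j * s⁻¹ := by
  rw [add_comm, xc_add, pow_one]

theorem xc_map {H : Type*} [Group H] (f : G →* H) (s x : G) (i : ℕ) :
    f (xc s x i) = xc (f s) (f x) i := by
  simp [xc]

theorem cc1_map {H : Type*} [Group H] (f : G →* H) (s x : G) :
    f (cc1 s x) = cc1 (f s) (f x) := by
  simp [cc1, xc_map]

theorem cc2_map {H : Type*} [Group H] (f : G →* H) (s x : G) :
    f (cc2 s x) = cc2 (f s) (f x) := by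
  simp [cc2, xc_map]

/-- conjugation by `g` preserves the closure of `S` as soon as it maps `S` into it -/
theorem conj_mem_closure {S : Set G} {g : G} (h : ∀ y ∈ S, g * y * g⁻¹ ∈ Subgroup.closure S) :
    ∀ u ∈ Subgroup.closure S, g * u * g⁻¹ ∈ Subgroup.closure S := by
  have hle : Subgroup.closure S ≤ (Subgroup.closure S).comap (MulAut.conj g).toMonoidHom := by
    rw [Subgroup.closure_le]
    intro y hy
    exact h y hy
  intro u hu
  exact hle hu

/-- an element mapping a finite subgroup into itself by conjugation normalizes it -/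
theorem mem_normalizer_of_finite (H : Subgroup G) [Finite H] (g : G)
    (h : ∀ y ∈ H, g * y * g⁻¹ ∈ H) : g ∈ Subgroup.normalizer (H : Set G) := by
  let φ : H → H := fun y => ⟨g * y * g⁻¹, h y y.2⟩
  have hinj : Function.Injective φ := by
    intro a b hab
    have : g * (a : G) * g⁻¹ = g * (b : G) * g⁻¹ := congrArg Subtype.val hab
    apply Subtype.ext
    simpa using this
  have hsurj : Function.Surjective φ := Finite.injective_iff_surjective.mp hinj
  rw [Subgroup.mem_normalizer_iff]
  intro u
  constructor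
  · intro hu; exact h u hu
  · intro hu
    obtain ⟨y, hy⟩ := hsurj ⟨g * u * g⁻¹, hu⟩
    have : g * (y : G) * g⁻¹ = g * u * g⁻¹ := congrArg Subtype.val hy
    have hyu : (y : G) = u := by simpa using this
    rw [← hyu]; exact y.2

/-- one step of the chain of closures -/
theorem closure_insert_step (S : Set G) (g : G) (n N : ℕ) (hn : 0 < n)
    (hfin : Finite (Subgroup.closure S)) (hN : Nat.card (Subgroup.closure S) ≤ N)
    (hconj : ∀ y ∈ S, g * y * g⁻¹ ∈ Subgroup.closure S) (hpow : g ^ n ∈ Subgroup.closure S) :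
    Finite (Subgroup.closure (insert g S)) ∧ Nat.card (Subgroup.closure (insert g S)) ≤ n * N := by
  have hnorm : g ∈ Subgroup.normalizer ((Subgroup.closure S : Subgroup G) : Set G) :=
    mem_normalizer_of_finite _ g (conj_mem_closure hconj)
  have heq : Subgroup.closure (insert g S) = Subgroup.closure S ⊔ Subgroup.zpowers g := by
    rw [Set.insert_eq, Subgroup.closure_union, Subgroup.zpowers_eq_closure, sup_comm]
  obtain ⟨h1, h2⟩ := card_sup_zpowers_le (Subgroup.closure S) g n hn hnorm hpow
  rw [heq]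
  exact ⟨h1, h2.trans (Nat.mul_le_mul_left n hN)⟩

end Cfsg.Agent.Lib.Helper5.C320
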