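import Mathlib
import Cfsg.Agent.Lib.Helper5.C320.A2

/-!
# Groups of order 320, part 3: consequences of the relations
-/

set_option autoImplicit false

namespace Cfsg.Agent.Lib.Helper5.C320

variable {G : Type*} [Group G]

theorem conj_of_swap {a b c : G} (h : a * b = c * b * a) : b * a * b⁻¹ = c⁻¹ * a := by
  have h1 : b * a = c⁻¹ * (a * b) := by rw [h]; group
  rw [h1]; group

theorem conj_central' {c : G} (hc : ∀ g, c * g = g * c) (g : G) : g * c * g⁻¹ = c := by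
  rw [← hc g]; group

theorem xc_five_add' {s : G} (x : G) (hs5 : s ^ 5 = 1) (i : ℕ) : xc s x (5 + i) = xc s x i := by
  rw [xc_add, hs5]; simp

theorem swap1' {s x : G} (hc : ∀ g, cc1 s x * g = g * cc1 s x) (i : ℕ) :
    xc s x i * xc s x (i + 1) = cc1 s x * xc s x (i + 1) * xc s x i := by
  have base : x * xc s x 1 = cc1 s x * xc s x 1 * x := by
    simp only [cc1]; group
  have e0 : xc s x i = s ^ i * x * (s ^ i)⁻¹ := rfl
  rw [xc_add s x i 1, e0]
  calc s ^ i * x * (s ^ i)⁻¹ * (s ^ i * xc s x 1 * (s ^ i)⁻¹)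
      = s ^ i * (x * xc s x 1) * (s ^ i)⁻¹ := by group
    _ = s ^ i * (cc1 s x * xc s x 1 * x) * (s ^ i)⁻¹ := by rw [base]
    _ = (s ^ i * cc1 s x * (s ^ i)⁻¹) * (s ^ i * xc s x 1 * (s ^ i)⁻¹) *
          (s ^ i * x * (s ^ i)⁻¹) := by group
    _ = cc1 s x * (s ^ i * xc s x 1 * (s ^ i)⁻¹) * (s ^ i * x * (s ^ i)⁻¹) := by
        rw [conj_central' hc]

theorem swap2' {s x : G} (hc : ∀ g, cc2 s x * g = g * cc2 s x) (i : ℕ) :
    xc s x i * xc s x (i + 2) = cc2 s x * xc s x (i + 2) * xc s x i := by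
  have base : x * xc s x 2 = cc2 s x * xc s x 2 * x := by
    simp only [cc2]; group
  have e0 : xc s x i = s ^ i * x * (s ^ i)⁻¹ := rfl
  rw [xc_add s x i 2, e0]
  calc s ^ i * x * (s ^ i)⁻¹ * (s ^ i * xc s x 2 * (s ^ i)⁻¹)
      = s ^ i * (x * xc s x 2) * (s ^ i)⁻¹ := by group
    _ = s ^ i * (cc2 s x * xc s x 2 * x) * (s ^ i)⁻¹ := by rw [base]
    _ = (s ^ i * cc2 s x * (s ^ i)⁻¹) * (s ^ i * xc s x 2 * (s ^ i)⁻¹) *
          (s ^ i * x * (s ^ i)⁻¹) := by group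
    _ = cc2 s x * (s ^ i * xc s x 2 * (s ^ i)⁻¹) * (s ^ i * x * (s ^ i)⁻¹) := by
        rw [conj_central' hc]

theorem inv_eq_of_sq {c : G} (h : c ^ 2 = 1) : c⁻¹ = c := by
  rw [pow_two] at h
  exact inv_eq_of_mul_eq_one_left h

/-- the relation between `x₀` and `x₃` -/
theorem swap03' {s x : G} (hs5 : s ^ 5 = 1) (hsq : cc2 s x ^ 2 = 1)
    (hc : ∀ g, cc2 s x * g = g * cc2 s x) :
    xc s x 0 * xc s x 3 = cc2 s x * xc s x 3 * xc s x 0 := by
  have h3 := swap2' hc 3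
  have h5 : xc s x (3 + 2) = xc s x 0 := by
    have := xc_five_add' x hs5 0
    simpa using this
  rw [h5] at h3
  have : xc s x 0 * xc s x 3 = (cc2 s x)⁻¹ * (xc s x 3 * xc s x 0) := by rw [h3]; group
  rw [this, inv_eq_of_sq hsq, mul_assoc]

theorem sq_xc' {s x e : G} (he : ∀ g, e * g = g * e) (hx : x ^ 2 = e) (i : ℕ) :
    xc s x i ^ 2 = e := by
  have e0 : xc s x i = s ^ i * x * (s ^ i)⁻¹ := rfl
  calc xc s x i ^ 2 = s ^ i * x ^ 2 * (s ^ i)⁻¹ := by rw [e0, pow_two, pow_two]; group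
    _ = s ^ i * e * (s ^ i)⁻¹ := by rw [hx]
    _ = e := conj_central' he _

namespace Rel

variable {s x : G} (h : Rel s x)

include h

theorem xc_five_add (i : ℕ) : xc s x (5 + i) = xc s x i := xc_five_add' x h.s5 i

theorem central_of_gen (hgen : Subgroup.closure {s, x} = ⊤) {c : G}
    (hs : c * s = s * c) (hx : c * x = x * c) (g : G) : c * g = g * c := by
  have hle : Subgroup.closure {s, x} ≤ Subgroup.centralizer {c} := by
    rw [Subgroup.closure_le]
    rintro y (rfl | rfl)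
    · rw [SetLike.mem_coe, Subgroup.mem_centralizer_iff]
      rintro _ rfl; exact hs
    · rw [SetLike.mem_coe, Subgroup.mem_centralizer_iff]
      rintro _ rfl; exact hx
  have hg : g ∈ Subgroup.centralizer {c} := hle (by rw [hgen]; trivial)
  rw [Subgroup.mem_centralizer_iff] at hg
  exact hg c rfl

theorem swap1 (hc : ∀ g, cc1 s x * g = g * cc1 s x) (i : ℕ) :
    xc s x i * xc s x (i + 1) = cc1 s x * xc s x (i + 1) * xc s x i := swap1' hc i

theorem swap2 (hc : ∀ g, cc2 s x * g = g * cc2 s x) (i : ℕ) :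
    xc s x i * xc s x (i + 2) = cc2 s x * xc s x (i + 2) * xc s x i := swap2' hc i

theorem swap03 (hc : ∀ g, cc2 s x * g = g * cc2 s x) :
    xc s x 0 * xc s x 3 = cc2 s x * xc s x 3 * xc s x 0 := swap03' h.s5 h.c2sq hc

theorem sq_xc (hc1 : ∀ g, cc1 s x * g = g * cc1 s x) (hc2 : ∀ g, cc2 s x * g = g * cc2 s x)
    (i : ℕ) : xc s x i ^ 2 = cc1 s x * cc2 s x := by
  apply sq_xc' _ h.xsq
  intro g
  rw [mul_assoc, hc2 g, ← mul_assoc, hc1 g, mul_assoc]

end Rel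

end Cfsg.Agent.Lib.Helper5.C320
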