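import Mathlib
import Cfsg.Agent.Lib.Helper5.C320.A3

/-!
# Groups of order 320, part 4: the order bound
-/

set_option autoImplicit false

namespace Cfsg.Agent.Lib.Helper5.C320

variable {G : Type*} [Group G]

theorem conj_eq_of_comm {g y : G} (hg : g * y = y * g) : g * y * g⁻¹ = y := by
  rw [hg]; group

namespace Rel

variable {s x : G}

theorem card_le (h : Rel s x) (hgen : Subgroup.closure {s, x} = ⊤) :
    Finite G ∧ Nat.card G ≤ 320 := by
  have hc1 : ∀ g, cc1 s x * g = g * cc1 s x := central_of_gen h hgen h.c1s h.c1x
  have hc2 : ∀ g, cc2 s x * g = g * cc2 s x := central_of_gen h hgen h.c2s h.c2x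
  have hsq := sq_xc h hc1 hc2
  -- step 0
  have f0 : Finite (Subgroup.closure (∅ : Set G)) := by
    rw [Subgroup.closure_empty]; infer_instance
  have n0 : Nat.card (Subgroup.closure (∅ : Set G)) ≤ 1 := by
    rw [Subgroup.closure_empty]; simp
  -- step 1 : c1
  obtain ⟨f1, n1⟩ := closure_insert_step (∅ : Set G) (cc1 s x) 2 1 (by norm_num) f0 n0
    (by intro y hy; exact absurd hy (Set.notMem_empty y))
    (by rw [h.c1sq]; exact Subgroup.one_mem _)
  -- step 2 : c2
  obtain ⟨f2, n2⟩ := closure_insert_step _ (cc2 s x) 2 _ (by norm_num) f1 n1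
    (by
      intro y hy
      rw [conj_eq_of_comm (hc2 y)]; exact Subgroup.subset_closure hy)
    (by rw [h.c2sq]; exact Subgroup.one_mem _)
  -- step 3 : x0
  obtain ⟨f3, n3⟩ := closure_insert_step _ (xc s x 0) 2 _ (by norm_num) f2 n2
    (by
      intro y hy
      simp only [Set.mem_insert_iff, Set.mem_empty_iff_false, or_false] at hy
      rcases hy with rfl | rfl
      · rw [conj_eq_of_comm (hc2 _).symm]; exact Subgroup.subset_closure (by simp)
      · rw [conj_eq_of_comm (hc1 _).symm]; exact Subgroup.subset_closure (by simp))
    (by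
      rw [hsq 0]
      exact Subgroup.mul_mem _ (Subgroup.subset_closure (by simp)) (Subgroup.subset_closure (by simp)))
  -- step 4 : x1
  obtain ⟨f4, n4⟩ := closure_insert_step _ (xc s x 1) 2 _ (by norm_num) f3 n3
    (by
      intro y hy
      simp only [Set.mem_insert_iff, Set.mem_empty_iff_false, or_false] at hy
      rcases hy with rfl | rfl | rfl
      · rw [conj_of_swap (swap1 h hc1 0)]
        exact Subgroup.mul_mem _ (Subgroup.inv_mem _ (Subgroup.subset_closure (by simp)))
          (Subgroup.subset_closure (by simp))
      · rw [conj_eq_of_comm (hc2 _).symm]; exact Subgroup.subset_closure (by simp)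
      · rw [conj_eq_of_comm (hc1 _).symm]; exact Subgroup.subset_closure (by simp))
    (by
      rw [hsq 1]
      exact Subgroup.mul_mem _ (Subgroup.subset_closure (by simp)) (Subgroup.subset_closure (by simp)))
  -- step 5 : x2
  obtain ⟨f5, n5⟩ := closure_insert_step _ (xc s x 2) 2 _ (by norm_num) f4 n4
    (by
      intro y hy
      simp only [Set.mem_insert_iff, Set.mem_empty_iff_false, or_false] at hy
      rcases hy with rfl | rfl | rfl | rfl
      · rw [conj_of_swap (swap1 h hc1 1)]
        exact Subgroup.mul_mem _ (Subgroup.inv_mem _ (Subgroup.subset_closure (by simp)))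
          (Subgroup.subset_closure (by simp))
      · rw [conj_of_swap (swap2 h hc2 0)]
        exact Subgroup.mul_mem _ (Subgroup.inv_mem _ (Subgroup.subset_closure (by simp)))
          (Subgroup.subset_closure (by simp))
      · rw [conj_eq_of_comm (hc2 _).symm]; exact Subgroup.subset_closure (by simp)
      · rw [conj_eq_of_comm (hc1 _).symm]; exact Subgroup.subset_closure (by simp))
    (by
      rw [hsq 2]
      exact Subgroup.mul_mem _ (Subgroup.subset_closure (by simp)) (Subgroup.subset_closure (by simp)))
  -- step 6 : x3
  obtain ⟨f6, n6⟩ := closure_insert_step _ (xc s x 3) 2 _ (by norm_num) f5 n5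
    (by
      intro y hy
      simp only [Set.mem_insert_iff, Set.mem_empty_iff_false, or_false] at hy
      rcases hy with rfl | rfl | rfl | rfl | rfl
      · rw [conj_of_swap (swap1 h hc1 2)]
        exact Subgroup.mul_mem _ (Subgroup.inv_mem _ (Subgroup.subset_closure (by simp)))
          (Subgroup.subset_closure (by simp))
      · rw [conj_of_swap (swap2 h hc2 1)]
        exact Subgroup.mul_mem _ (Subgroup.inv_mem _ (Subgroup.subset_closure (by simp)))
          (Subgroup.subset_closure (by simp))
      · rw [conj_of_swap (swap03 h hc2)]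
        exact Subgroup.mul_mem _ (Subgroup.inv_mem _ (Subgroup.subset_closure (by simp)))
          (Subgroup.subset_closure (by simp))
      · rw [conj_eq_of_comm (hc2 _).symm]; exact Subgroup.subset_closure (by simp)
      · rw [conj_eq_of_comm (hc1 _).symm]; exact Subgroup.subset_closure (by simp))
    (by
      rw [hsq 3]
      exact Subgroup.mul_mem _ (Subgroup.subset_closure (by simp)) (Subgroup.subset_closure (by simp)))
  -- step 7 : s
  obtain ⟨f7, n7⟩ := closure_insert_step _ s 5 _ (by norm_num) f6 n6
    (by
      intro y hy
      simp only [Set.mem_insert_iff, Set.mem_empty_iff_false, or_false] at hy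
      rcases hy with rfl | rfl | rfl | rfl | rfl | rfl
      · rw [← xc_succ, h.x4]
        have key : ∀ T : Set G, xc s x 0 ∈ T → x ∈ Subgroup.closure T := fun T hT => by
          have := Subgroup.subset_closure (k := T) hT
          rwa [xc_zero] at this
        have m0 := key _ (show xc s x 0 ∈ (insert (xc s x 3) (insert (xc s x 2) (insert (xc s x 1)
            (insert (xc s x 0) (insert (cc2 s x) (insert (cc1 s x) (∅ : Set G))))))) by simp)
        exact Subgroup.mul_mem _ (Subgroup.mul_mem _ (Subgroup.mul_mem _ m0
          (Subgroup.subset_closure (by simp))) (Subgroup.subset_closure (by simp)))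
          (Subgroup.subset_closure (by simp))
      · rw [← xc_succ]; exact Subgroup.subset_closure (by simp)
      · rw [← xc_succ]; exact Subgroup.subset_closure (by simp)
      · rw [← xc_succ]; exact Subgroup.subset_closure (by simp)
      · rw [conj_eq_of_comm (hc2 _).symm]; exact Subgroup.subset_closure (by simp)
      · rw [conj_eq_of_comm (hc1 _).symm]; exact Subgroup.subset_closure (by simp))
    (by rw [h.s5]; exact Subgroup.one_mem _)
  -- the last closure is everything
  have htop : Subgroup.closure (insert s (insert (xc s x 3) (insert (xc s x 2) (insert (xc s x 1)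
      (insert (xc s x 0) (insert (cc2 s x) (insert (cc1 s x) (∅ : Set G)))))))) = ⊤ := by
    rw [eq_top_iff, ← hgen, Subgroup.closure_le]
    intro y hy
    rcases hy with h1 | h1
    · rw [h1]; exact Subgroup.subset_closure (by simp)
    · rw [Set.mem_singleton_iff] at h1
      rw [h1]
      have key : ∀ T : Set G, xc s x 0 ∈ T → x ∈ Subgroup.closure T := fun T hT => by
        have := Subgroup.subset_closure (k := T) hT
        rwa [xc_zero] at this
      exact key _ (by simp)
  rw [htop] at f7 n7
  have e : (⊤ : Subgroup G) ≃ G := Subgroup.topEquiv.toEquiv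
  refine ⟨Finite.of_equiv _ e, ?_⟩
  rw [← Nat.card_congr e]
  exact n7.trans (by norm_num)

end Rel

end Cfsg.Agent.Lib.Helper5.C320
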