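import Mathlib
import Cfsg.Agent.Lib.Helper5.C320.A4

/-!
# Groups of order 320, part 5: the presented group and uniqueness
-/

set_option autoImplicit false

namespace Cfsg.Agent.Lib.Helper5.C320

/-- the free generator standing for the element of order five -/
def fs : FreeGroup (Fin 2) := FreeGroup.of 0

/-- the free generator standing for the element of the normal `2`-subgroup -/
def fx : FreeGroup (Fin 2) := FreeGroup.of 1

/-- the relators -/
def rels320 : Set (FreeGroup (Fin 2)) :=
  {fs ^ 5,
   cc1 fs fx * fs * (fs * cc1 fs fx)⁻¹,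
   cc1 fs fx * fx * (fx * cc1 fs fx)⁻¹,
   cc2 fs fx * fs * (fs * cc2 fs fx)⁻¹,
   cc2 fs fx * fx * (fx * cc2 fs fx)⁻¹,
   cc1 fs fx ^ 2,
   cc2 fs fx ^ 2,
   fx ^ 2 * (cc1 fs fx * cc2 fs fx)⁻¹,
   xc fs fx 4 * (fx * xc fs fx 1 * xc fs fx 2 * xc fs fx 3)⁻¹}

/-- the model group -/
abbrev P320 : Type := PresentedGroup rels320

/-- the generator of order five of the model -/
def ps : P320 := PresentedGroup.mk rels320 fs

/-- the other generator of the model -/
def px : P320 := PresentedGroup.mk rels320 fx

theorem eq_of_rel {a b : FreeGroup (Fin 2)} (h : a * b⁻¹ ∈ rels320) :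
    PresentedGroup.mk rels320 a = PresentedGroup.mk rels320 b := by
  have := PresentedGroup.one_of_mem h
  rw [map_mul, map_inv, mul_inv_eq_one] at this
  exact this

theorem rel_P320 : Rel ps px where
  s5 := by
    have h : fs ^ 5 ∈ rels320 := by simp [rels320]
    have := PresentedGroup.one_of_mem h
    rwa [map_pow] at this
  c1s := by
    have := eq_of_rel (a := cc1 fs fx * fs) (b := fs * cc1 fs fx) (by simp [rels320])
    simpa [map_mul, cc1_map, ps, px] using this
  c1x := by
    have := eq_of_rel (a := cc1 fs fx * fx) (b := fx * cc1 fs fx) (by simp [rels320])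
    simpa [map_mul, cc1_map, ps, px] using this
  c2s := by
    have := eq_of_rel (a := cc2 fs fx * fs) (b := fs * cc2 fs fx) (by simp [rels320])
    simpa [map_mul, cc2_map, ps, px] using this
  c2x := by
    have := eq_of_rel (a := cc2 fs fx * fx) (b := fx * cc2 fs fx) (by simp [rels320])
    simpa [map_mul, cc2_map, ps, px] using this
  c1sq := by
    have h : cc1 fs fx ^ 2 ∈ rels320 := by simp [rels320]
    have := PresentedGroup.one_of_mem h
    rwa [map_pow, cc1_map] at this
  c2sq := by
    have h : cc2 fs fx ^ 2 ∈ rels320 := by simp [rels320]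
    have := PresentedGroup.one_of_mem h
    rwa [map_pow, cc2_map] at this
  xsq := by
    have := eq_of_rel (a := fx ^ 2) (b := cc1 fs fx * cc2 fs fx) (by simp [rels320])
    simpa [map_mul, map_pow, cc1_map, cc2_map, ps, px] using this
  x4 := by
    have := eq_of_rel (a := xc fs fx 4) (b := fx * xc fs fx 1 * xc fs fx 2 * xc fs fx 3)
      (by simp [rels320])
    simpa [map_mul, xc_map, ps, px] using this

theorem gen_P320 : Subgroup.closure {ps, px} = ⊤ := by
  have h := PresentedGroup.closure_range_of rels320
  rw [eq_top_iff, ← h, Subgroup.closure_le]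
  rintro _ ⟨i, rfl⟩
  fin_cases i
  · exact Subgroup.subset_closure (by left; rfl)
  · exact Subgroup.subset_closure (by right; rfl)

theorem finite_P320 : Finite P320 := (rel_P320.card_le gen_P320).1

theorem card_P320_le : Nat.card P320 ≤ 320 := (rel_P320.card_le gen_P320).2

/-- any group of order 320 generated by two elements subject to the relations is the model -/
theorem iso_of_rel {G : Type*} [Group G] [Finite G] (hcard : Nat.card G = 320) {s x : G}
    (h : Rel s x) (hgen : Subgroup.closure {s, x} = ⊤) : Nonempty (G ≃* P320) := by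
  have hrel : ∀ r ∈ rels320, FreeGroup.lift ![s, x] r = 1 := by
    intro r hr
    have hs : FreeGroup.lift ![s, x] fs = s := by simp [fs]
    have hx : FreeGroup.lift ![s, x] fx = x := by simp [fx]
    simp only [rels320, Set.mem_insert_iff, Set.mem_singleton_iff] at hr
    rcases hr with rfl | rfl | rfl | rfl | rfl | rfl | rfl | rfl | rfl
    · rw [map_pow, hs, h.s5]
    · rw [map_mul, map_inv, mul_inv_eq_one, map_mul, map_mul, cc1_map, hs, hx]; exact h.c1s
    · rw [map_mul, map_inv, mul_inv_eq_one, map_mul, map_mul, cc1_map, hs, hx]; exact h.c1x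
    · rw [map_mul, map_inv, mul_inv_eq_one, map_mul, map_mul, cc2_map, hs, hx]; exact h.c2s
    · rw [map_mul, map_inv, mul_inv_eq_one, map_mul, map_mul, cc2_map, hs, hx]; exact h.c2x
    · rw [map_pow, cc1_map, hs, hx]; exact h.c1sq
    · rw [map_pow, cc2_map, hs, hx]; exact h.c2sq
    · rw [map_mul, map_inv, mul_inv_eq_one, map_pow, map_mul, cc1_map, cc2_map, hs, hx]
      exact h.xsq
    · rw [map_mul, map_inv, mul_inv_eq_one, map_mul, map_mul, map_mul, xc_map, xc_map, xc_map,
        xc_map, hs, hx]
      exact h.x4
  let φ : P320 →* G := PresentedGroup.toGroup hrel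
  have hφs : φ ps = s := by
    have : φ (PresentedGroup.of 0) = ![s, x] 0 := PresentedGroup.toGroup.of hrel
    have e : (PresentedGroup.of 0 : P320) = ps := rfl
    rw [e] at this
    simpa using this
  have hφx : φ px = x := by
    have : φ (PresentedGroup.of 1) = ![s, x] 1 := PresentedGroup.toGroup.of hrel
    have e : (PresentedGroup.of 1 : P320) = px := rfl
    rw [e] at this
    simpa using this
  have hsurj : Function.Surjective φ := by
    rw [← MonoidHom.range_eq_top, eq_top_iff, ← hgen, Subgroup.closure_le]
    rintro y (rfl | rfl)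
    · exact ⟨ps, hφs⟩
    · exact ⟨px, hφx⟩
  haveI := finite_P320
  have h1 : Nat.card G ≤ Nat.card P320 := Nat.card_le_card_of_surjective φ hsurj
  have h2 : Nat.card P320 = Nat.card G := le_antisymm (card_P320_le.trans hcard.ge) h1
  have hbij : Function.Bijective φ := by
    rw [Nat.bijective_iff_surjective_and_card]
    exact ⟨hsurj, h2⟩
  exact ⟨(MulEquiv.ofBijective φ hbij).symm⟩

end Cfsg.Agent.Lib.Helper5.C320
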