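import Mathlib

/-!
# Groups of order 320, part B1: fixed points of an element of order five acting by conjugation
-/

set_option autoImplicit false

namespace Cfsg.Agent.Lib.Helper5.C320

variable {G : Type*} [Group G]

/-- If `σ ^ 5 = 1` and conjugation by `σ` maps the finite subgroup `H` into itself, then the number
of elements of `H` commuting with `σ` is congruent to `|H|` modulo `5`. -/
theorem card_modEq_card_inf_centralizer (σ : G) (hσ : σ ^ 5 = 1) (H : Subgroup G) [Finite H]
    (hinv : ∀ y ∈ H, σ * y * σ⁻¹ ∈ H) :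
    Nat.card H ≡ Nat.card ↥(H ⊓ Subgroup.centralizer {σ}) [MOD 5] := by
  classical
  haveI : Fintype H := Fintype.ofFinite H
  haveI : Fact (Nat.Prime 5) := ⟨by norm_num⟩
  let f : Function.End H := fun y => ⟨σ * y * σ⁻¹, hinv y y.2⟩
  have hpow : ∀ (n : ℕ) (y : H), (((f ^ n) y : H) : G) = σ ^ n * y * (σ ^ n)⁻¹ := by
    intro n
    induction n with
    | zero => intro y; rw [pow_zero, pow_zero]; show ((y : H) : G) = _; simp
    | succ k ih =>
      intro y
      have e1 : (f ^ (k + 1)) y = f ((f ^ k) y) := by rw [pow_succ']; rfl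
      rw [e1]
      show σ * (((f ^ k) y : H) : G) * σ⁻¹ = _
      rw [ih y, pow_succ']
      group
  have hf : f ^ 5 ^ 1 = 1 := by
    funext y
    apply Subtype.ext
    rw [pow_one, hpow 5 y, hσ]
    show _ = ((y : H) : G)
    simp
  have h1 := Equiv.Perm.card_fixedPoints_modEq (p := 5) (n := 1) hf
  have e : Function.fixedPoints f ≃ ↥(H ⊓ Subgroup.centralizer {σ}) :=
    { toFun := fun y => ⟨(y.1 : G), Subgroup.mem_inf.mpr ⟨y.1.2, by
        rw [Subgroup.mem_centralizer_iff]
        intro g hg
        rw [Set.mem_singleton_iff] at hg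
        rw [hg]
        have hy : f y.1 = y.1 := y.2
        have hy' : σ * (y.1 : G) * σ⁻¹ = (y.1 : G) := congrArg Subtype.val hy
        calc σ * (y.1 : G) = σ * (y.1 : G) * σ⁻¹ * σ := by group
          _ = (y.1 : G) * σ := by rw [hy']⟩⟩
      invFun := fun z => ⟨⟨(z : G), (Subgroup.mem_inf.mp z.2).1⟩, by
        have hz := (Subgroup.mem_inf.mp z.2).2
        rw [Subgroup.mem_centralizer_iff] at hz
        have hz' := hz σ rfl
        show f _ = _
        apply Subtype.ext
        show σ * (z : G) * σ⁻¹ = (z : G)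
        rw [hz']; group⟩
      left_inv := fun y => rfl
      right_inv := fun z => rfl }
  rw [Nat.card_eq_fintype_card, ← Nat.card_congr e, Nat.card_eq_fintype_card]
  exact h1

end Cfsg.Agent.Lib.Helper5.C320
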