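import Mathlib
import Cfsg.Agent.Lib.Helper5.C320.B1

/-!
# Groups of order 320, part B2: general lemmas on a normal subgroup of index five
-/

set_option autoImplicit false

namespace Cfsg.Agent.Lib.Helper5.C320

open scoped commutatorElement

variable {G : Type*} [Group G]

/-- a subgroup of index five together with an element of order five outside it generates -/
theorem sup_zpowers_eq_top [Finite G] (N : Subgroup G) (a : ℕ) (hcop : Nat.Coprime a 5)
    (hG : Nat.card G = a * 5) (hN : Nat.card N = a) (τ : G) (hτ5 : τ ^ 5 = 1) (hτN : τ ∉ N) :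
    N ⊔ Subgroup.zpowers τ = ⊤ := by
  have hτ1 : τ ≠ 1 := fun h => hτN (h ▸ N.one_mem)
  have hord : orderOf τ = 5 := by
    have hd : orderOf τ ∣ 5 := orderOf_dvd_of_pow_eq_one hτ5
    rcases (Nat.dvd_prime (by norm_num : Nat.Prime 5)).mp hd with h | h
    · exact absurd (orderOf_eq_one_iff.mp h) hτ1
    · exact h
  have h1 : a ∣ Nat.card ↥(N ⊔ Subgroup.zpowers τ) := by
    rw [← hN]; exact Subgroup.card_dvd_of_le le_sup_left
  have h2 : 5 ∣ Nat.card ↥(N ⊔ Subgroup.zpowers τ) := by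
    rw [← hord, ← Nat.card_zpowers]; exact Subgroup.card_dvd_of_le le_sup_right
  have h3 : a * 5 ∣ Nat.card ↥(N ⊔ Subgroup.zpowers τ) := hcop.mul_dvd_of_dvd_of_dvd h1 h2
  have h4 : Nat.card ↥(N ⊔ Subgroup.zpowers τ) ≤ Nat.card G := Subgroup.card_le_card_group _
  have h5 : Nat.card ↥(N ⊔ Subgroup.zpowers τ) = Nat.card G := by
    apply le_antisymm h4
    rw [hG]
    exact Nat.le_of_dvd Nat.card_pos h3
  exact Subgroup.eq_top_of_card_eq _ h5

/-- commutators are unchanged by central factors -/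
theorem commutatorElement_mul_central {a b t u : G} (ht : ∀ g, t * g = g * t)
    (hu : ∀ g, u * g = g * u) : ⁅a * t, b * u⁆ = ⁅a, b⁆ := by
  rw [commutatorElement_def, commutatorElement_def]
  have e1 : ∀ y : G, t * y * t⁻¹ = y := fun y => by rw [ht y]; group
  have e2 : ∀ y : G, u * y * u⁻¹ = y := fun y => by rw [hu y]; group
  calc a * t * (b * u) * (a * t)⁻¹ * (b * u)⁻¹
      = a * (t * (b * u) * t⁻¹) * a⁻¹ * u⁻¹ * b⁻¹ := by group
    _ = a * (b * u) * a⁻¹ * u⁻¹ * b⁻¹ := by rw [e1]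
    _ = a * b * (u * a⁻¹ * u⁻¹) * b⁻¹ := by group
    _ = a * b * a⁻¹ * b⁻¹ := by rw [e2]

end Cfsg.Agent.Lib.Helper5.C320
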