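import Mathlib
import Cfsg.Agent.Lib.Helper5.C320.B2

/-!
# Groups of order 320, part B3: groups of order 80 with derived subgroup of order 16
-/

set_option autoImplicit false

namespace Cfsg.Agent.Lib.Helper5.C320

open scoped commutatorElement

variable {K : Type*} [Group K]

/-- a nontrivial `2`-group is not equal to its own commutator subgroup -/
theorem commutator_self_ne (N : Subgroup K) [Finite N] (n : ℕ) (hn : 0 < n)
    (hN : Nat.card N = 2 ^ n) : ¬ N ≤ ⁅N, N⁆ := by
  intro hle
  haveI : Fact (Nat.Prime 2) := ⟨Nat.prime_two⟩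
  have hp : IsPGroup 2 N := IsPGroup.of_card hN
  haveI : Group.IsNilpotent N := hp.isNilpotent
  haveI : Nontrivial N := by
    rw [← Finite.one_lt_card_iff_nontrivial, hN]
    exact Nat.one_lt_two_pow hn.ne'
  have hlt := IsSolvable.commutator_lt_top_of_nontrivial N
  apply hlt.ne
  rw [eq_top_iff]
  intro y _
  have hy : (y : K) ∈ ⁅N, N⁆ := hle y.2
  rw [← Subgroup.map_subtype_commutator] at hy
  obtain ⟨y', hy', e⟩ := hy
  have : y' = y := Subtype.ext e
  rwa [this] at hy'

/-- If `K = N ⟨τ⟩` with `N = K'` a nontrivial `2`-group, then `τ` does not centralize `N`. -/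
theorem not_central (n : ℕ) (hn : 0 < n) [Finite K] (hN : Nat.card (commutator K) = 2 ^ n)
    (τ : K) (hsup : commutator K ⊔ Subgroup.zpowers τ = ⊤)
    (hc : ∀ a ∈ commutator K, τ * a = a * τ) : False := by
  -- τ is central
  have hτc : ∀ g : K, τ * g = g * τ := by
    have hle : commutator K ⊔ Subgroup.zpowers τ ≤ Subgroup.centralizer {τ} := by
      apply sup_le
      · intro a ha
        rw [Subgroup.mem_centralizer_iff]
        intro g hg
        rw [Set.mem_singleton_iff] at hg
        rw [hg]; exact hc a ha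
      · rw [Subgroup.zpowers_le, Subgroup.mem_centralizer_iff]
        intro g hg
        rw [Set.mem_singleton_iff] at hg
        rw [hg]
    intro g
    have hg : g ∈ Subgroup.centralizer {τ} := hle (by rw [hsup]; trivial)
    rw [Subgroup.mem_centralizer_iff] at hg
    exact hg τ rfl
  have hpowc : ∀ (t : K), t ∈ Subgroup.zpowers τ → ∀ g : K, t * g = g * t := by
    intro t ht g
    obtain ⟨m, rfl⟩ := Subgroup.mem_zpowers_iff.mp ht
    have : Commute τ g := hτc g
    exact (this.zpow_left m)
  -- every element is a product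
  have hdec : ∀ g : K, ∃ a ∈ commutator K, ∃ t ∈ Subgroup.zpowers τ, g = a * t := by
    intro g
    have hg : g ∈ ((commutator K ⊔ Subgroup.zpowers τ : Subgroup K) : Set K) := by
      rw [hsup]; trivial
    rw [sup_comm, Subgroup.mul_normal] at hg
    obtain ⟨t, ht, a, ha, rfl⟩ := hg
    exact ⟨a, ha, t, ht, hpowc t ht a⟩
  have hle : commutator K ≤ ⁅commutator K, commutator K⁆ := by
    conv_lhs => rw [commutator_def]
    rw [Subgroup.commutator_le]
    intro g₁ _ g₂ _
    obtain ⟨a, ha, t, ht, rfl⟩ := hdec g₁
    obtain ⟨b, hb, u, hu, rfl⟩ := hdec g₂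
    rw [commutatorElement_mul_central (hpowc t ht) (hpowc u hu)]
    exact Subgroup.commutator_mem_commutator ha hb
  exact commutator_self_ne (commutator K) n hn hN hle

end Cfsg.Agent.Lib.Helper5.C320
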