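import Mathlib
import Cfsg.Agent.Lib.Helper5.C320.B3

/-!
# Groups of order 320, part B4: groups of order 80 with derived subgroup of order 16
-/

set_option autoImplicit false

namespace Cfsg.Agent.Lib.Helper5.C320

open scoped commutatorElement

variable {K : Type*} [Group K]

theorem card_cases16 {c : ℕ} (hd : c ∣ 16) (hm : 16 ≡ c [MOD 5]) : c = 1 ∨ c = 16 := by
  have hle : c ≤ 16 := Nat.le_of_dvd (by norm_num) hd
  unfold Nat.ModEq at hm
  interval_cases c <;> omega

theorem order80 [Finite K] (hK : Nat.card K = 80) (hN : Nat.card (commutator K) = 16) (τ : K)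
    (hτ5 : τ ^ 5 = 1) (hτN : τ ∉ commutator K) :
    (∀ a ∈ commutator K, ∀ b ∈ commutator K, a * b = b * a) ∧
    (∀ a ∈ commutator K, a ^ 2 = 1) ∧
    (∀ a ∈ commutator K, τ * a * τ⁻¹ = a → a = 1) ∧
    (∀ H : Subgroup K, H ≤ commutator K → (∀ y ∈ H, τ * y * τ⁻¹ ∈ H) →
      H = ⊥ ∨ H = commutator K) := by
  classical
  have hsup : commutator K ⊔ Subgroup.zpowers τ = ⊤ :=
    sup_zpowers_eq_top (commutator K) 16 (by norm_num) (by rw [hK]) hN τ hτ5 hτN
  have hN' : Nat.card (commutator K) = 2 ^ 4 := by rw [hN]; norm_num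
  have hinvN : ∀ y ∈ commutator K, τ * y * τ⁻¹ ∈ commutator K := fun y hy =>
    (inferInstance : (commutator K).Normal).conj_mem y hy τ
  -- fixed points
  have hfix : commutator K ⊓ Subgroup.centralizer {τ} = ⊥ := by
    have h1 := card_modEq_card_inf_centralizer τ hτ5 (commutator K) hinvN
    rw [hN] at h1
    have h2 : Nat.card ↥(commutator K ⊓ Subgroup.centralizer {τ}) ∣ 16 := by
      rw [← hN]; exact Subgroup.card_dvd_of_le inf_le_left
    rcases card_cases16 h2 h1 with h | h
    · exact Subgroup.eq_bot_of_card_eq _ h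
    · exfalso
      have heq : commutator K ⊓ Subgroup.centralizer {τ} = commutator K :=
        Subgroup.eq_of_le_of_card_ge inf_le_left (by rw [h, hN])
      apply not_central 4 (by norm_num) hN' τ hsup
      intro a ha
      have : a ∈ commutator K ⊓ Subgroup.centralizer {τ} := by rw [heq]; exact ha
      have h3 := (Subgroup.mem_inf.mp this).2
      rw [Subgroup.mem_centralizer_iff] at h3
      exact h3 τ rfl
  have hfix' : ∀ a ∈ commutator K, τ * a * τ⁻¹ = a → a = 1 := by
    intro a ha hfa
    have : a ∈ commutator K ⊓ Subgroup.centralizer {τ} := by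
      refine Subgroup.mem_inf.mpr ⟨ha, ?_⟩
      rw [Subgroup.mem_centralizer_iff]
      intro g hg
      rw [Set.mem_singleton_iff] at hg
      rw [hg]
      calc τ * a = τ * a * τ⁻¹ * τ := by group
        _ = a * τ := by rw [hfa]
    rw [hfix] at this
    exact Subgroup.mem_bot.mp this
  -- invariant subgroups
  have hinvsub : ∀ H : Subgroup K, H ≤ commutator K → (∀ y ∈ H, τ * y * τ⁻¹ ∈ H) →
      H = ⊥ ∨ H = commutator K := by
    intro H hH hinv
    have h1 := card_modEq_card_inf_centralizer τ hτ5 H hinv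
    have h0 : H ⊓ Subgroup.centralizer {τ} = ⊥ := by
      rw [eq_bot_iff, ← hfix]
      exact inf_le_inf_right _ hH
    rw [h0, Subgroup.card_bot] at h1
    have h2 : Nat.card H ∣ 16 := by rw [← hN]; exact Subgroup.card_dvd_of_le hH
    have h3 : Nat.card H = 1 ∨ Nat.card H = 16 := by
      have hle : Nat.card H ≤ 16 := Nat.le_of_dvd (by norm_num) h2
      unfold Nat.ModEq at h1
      generalize Nat.card H = c at *
      interval_cases c <;> omega
    rcases h3 with h | h
    · left; exact Subgroup.eq_bot_of_card_eq _ h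
    · right; exact Subgroup.eq_of_le_of_card_ge hH (by rw [h, hN])
  -- abelian
  have hab : ∀ a ∈ commutator K, ∀ b ∈ commutator K, a * b = b * a := by
    have h1 : ⁅commutator K, commutator K⁆ ≤ commutator K := Subgroup.commutator_le_right _ _
    have h2 : ∀ y ∈ ⁅commutator K, commutator K⁆, τ * y * τ⁻¹ ∈ ⁅commutator K, commutator K⁆ :=
      fun y hy => (inferInstance : (⁅commutator K, commutator K⁆).Normal).conj_mem y hy τ
    rcases hinvsub _ h1 h2 with h | h
    · rw [Subgroup.commutator_eq_bot_iff_le_centralizer] at h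
      intro a ha b hb
      have := h ha
      rw [Subgroup.mem_centralizer_iff] at this
      exact (this b hb).symm
    · exfalso
      exact commutator_self_ne (commutator K) 4 (by norm_num) hN' h.ge
  refine ⟨hab, ?_, hfix', hinvsub⟩
  -- squares
  let Sq : Subgroup K :=
    { carrier := {y | ∃ a ∈ commutator K, a ^ 2 = y}
      mul_mem' := by
        rintro _ _ ⟨a, ha, rfl⟩ ⟨b, hb, rfl⟩
        refine ⟨a * b, Subgroup.mul_mem _ ha hb, ?_⟩
        have : Commute a b := hab a ha b hb
        exact this.mul_pow 2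
      one_mem' := ⟨1, Subgroup.one_mem _, one_pow 2⟩
      inv_mem' := by
        rintro _ ⟨a, ha, rfl⟩
        exact ⟨a⁻¹, Subgroup.inv_mem _ ha, inv_pow a 2⟩ }
  have hSqle : Sq ≤ commutator K := by
    rintro _ ⟨a, ha, rfl⟩
    exact Subgroup.pow_mem _ ha 2
  have hSqinv : ∀ y ∈ Sq, τ * y * τ⁻¹ ∈ Sq := by
    rintro _ ⟨a, ha, rfl⟩
    exact ⟨τ * a * τ⁻¹, hinvN a ha, conj_pow (a := τ) (b := a) (i := 2)⟩
  rcases hinvsub Sq hSqle hSqinv with h | h
  · intro a ha
    have : a ^ 2 ∈ Sq := ⟨a, ha, rfl⟩
    rw [h] at this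
    exact Subgroup.mem_bot.mp this
  · exfalso
    let sq : commutator K → commutator K := fun a => ⟨(a : K) ^ 2, Subgroup.pow_mem _ a.2 2⟩
    have hsurj : Function.Surjective sq := by
      intro y
      have hy : (y : K) ∈ Sq := by rw [h]; exact y.2
      obtain ⟨a, ha, e⟩ := hy
      exact ⟨⟨a, ha⟩, Subtype.ext e⟩
    have hinj : Function.Injective sq := Finite.injective_iff_surjective.mpr hsurj
    haveI : Fact (Nat.Prime 2) := ⟨Nat.prime_two⟩
    obtain ⟨a, ha⟩ := exists_prime_orderOf_dvd_card' (G := commutator K) 2 (by rw [hN]; norm_num)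
    have h1 : sq a = sq 1 := by
      apply Subtype.ext
      show (a : K) ^ 2 = ((1 : commutator K) : K) ^ 2
      have : a ^ 2 = 1 := by rw [← ha]; exact pow_orderOf_eq_one a
      have h2 : (a : K) ^ 2 = 1 := by
        have := congrArg Subtype.val this
        simpa using this
      rw [h2]; simp
    have h2 : a = 1 := hinj h1
    rw [h2, orderOf_one] at ha
    norm_num at ha

end Cfsg.Agent.Lib.Helper5.C320
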