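import Mathlib
import Cfsg.Agent.Lib.Helper5.C320.A5
import Cfsg.Agent.Lib.Helper5.C320.B4

/-!
# Groups of order 320, part B5: the relations from class two data
-/

set_option autoImplicit false

namespace Cfsg.Agent.Lib.Helper5.C320

variable {G : Type*} [Group G]

theorem swap_rev {a b c : G} (hc2 : c ^ 2 = 1) (h : a * b = c * b * a) : b * a = c * (a * b) := by
  have h1 : b * a = c⁻¹ * (a * b) := by rw [h]; group
  rw [h1, inv_eq_of_sq hc2]

theorem sq_mul_of_swap {a b c : G} (hc : ∀ g, c * g = g * c) (h : b * a = c * (a * b)) :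
    (a * b) ^ 2 = c * (a ^ 2 * b ^ 2) := by
  calc (a * b) ^ 2 = a * (b * a) * b := by rw [pow_two]; group
    _ = a * (c * (a * b)) * b := by rw [h]
    _ = (a * c) * (a * b * b) := by group
    _ = (c * a) * (a * b * b) := by rw [hc a]
    _ = c * (a ^ 2 * b ^ 2) := by rw [pow_two, pow_two]; group

theorem swap_mul {a₁ a₂ b d₁ d₂ : G} (hd₂ : ∀ g, d₂ * g = g * d₂)
    (h₁ : b * a₁ = d₁ * (a₁ * b)) (h₂ : b * a₂ = d₂ * (a₂ * b)) :
    b * (a₁ * a₂) = (d₁ * d₂) * ((a₁ * a₂) * b) := by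
  calc b * (a₁ * a₂) = (b * a₁) * a₂ := by group
    _ = d₁ * (a₁ * b) * a₂ := by rw [h₁]
    _ = d₁ * a₁ * (b * a₂) := by group
    _ = d₁ * a₁ * (d₂ * (a₂ * b)) := by rw [h₂]
    _ = d₁ * (a₁ * d₂) * (a₂ * b) := by group
    _ = d₁ * (d₂ * a₁) * (a₂ * b) := by rw [hd₂ a₁]
    _ = (d₁ * d₂) * ((a₁ * a₂) * b) := by group

theorem central_mul {a b : G} (ha : ∀ g, a * g = g * a) (hb : ∀ g, b * g = g * b) :
    ∀ g, (a * b) * g = g * (a * b) := by
  intro g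
  rw [mul_assoc, hb g, ← mul_assoc, ha g, mul_assoc]

theorem rel_of_data (s x : G) (Z : Subgroup G) (hZc : ∀ z ∈ Z, ∀ g, z * g = g * z)
    (hZexp : ∀ z ∈ Z, z ^ 2 = 1) (hs : s ^ 5 = 1) (h1 : cc1 s x ∈ Z) (h2 : cc2 s x ∈ Z)
    (hxsq : x ^ 2 ∈ Z) (hx4 : xc s x 4 = x * xc s x 1 * xc s x 2 * xc s x 3) : Rel s x := by
  have hc1 := hZc _ h1
  have hc2 := hZc _ h2
  have he := hZc _ hxsq
  have hc1sq := hZexp _ h1
  have hc2sq := hZexp _ h2
  have hesq := hZexp _ hxsq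
  have hsq : ∀ i, xc s x i ^ 2 = x ^ 2 := sq_xc' he rfl
  have x0 : xc s x 0 = x := xc_zero s x
  -- the swaps
  have s10 : xc s x 1 * x = cc1 s x * (x * xc s x 1) := by
    have := swap_rev hc1sq (swap1' hc1 0); rwa [x0] at this
  have s20 : xc s x 2 * x = cc2 s x * (x * xc s x 2) := by
    have := swap_rev hc2sq (swap2' hc2 0); rwa [x0] at this
  have s21 : xc s x 2 * xc s x 1 = cc1 s x * (xc s x 1 * xc s x 2) :=
    swap_rev hc1sq (swap1' hc1 1)
  have s30 : xc s x 3 * x = cc2 s x * (x * xc s x 3) := by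
    have := swap_rev hc2sq (swap03' hs hc2sq hc2); rwa [x0] at this
  have s31 : xc s x 3 * xc s x 1 = cc2 s x * (xc s x 1 * xc s x 3) :=
    swap_rev hc2sq (swap2' hc2 1)
  have s32 : xc s x 3 * xc s x 2 = cc1 s x * (xc s x 2 * xc s x 3) :=
    swap_rev hc1sq (swap1' hc1 2)
  -- squares of the partial products
  have v2 : (x * xc s x 1) ^ 2 = cc1 s x * (x ^ 2 * x ^ 2) := by
    rw [sq_mul_of_swap hc1 s10, hsq 1]
  have sw2 : xc s x 2 * (x * xc s x 1) = (cc2 s x * cc1 s x) * ((x * xc s x 1) * xc s x 2) :=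
    swap_mul hc1 s20 s21
  have u2 : (x * xc s x 1 * xc s x 2) ^ 2 =
      (cc2 s x * cc1 s x) * (cc1 s x * (x ^ 2 * x ^ 2) * x ^ 2) := by
    have hcc : ∀ g, (cc2 s x * cc1 s x) * g = g * (cc2 s x * cc1 s x) := central_mul hc2 hc1
    rw [sq_mul_of_swap hcc sw2, v2, hsq 2]
  have sw3a : xc s x 3 * (x * xc s x 1) = (cc2 s x * cc2 s x) * ((x * xc s x 1) * xc s x 3) :=
    swap_mul hc2 s30 s31
  have sw3 : xc s x 3 * (x * xc s x 1 * xc s x 2) =
      (cc2 s x * cc2 s x * cc1 s x) * ((x * xc s x 1 * xc s x 2) * xc s x 3) :=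
    swap_mul hc1 sw3a s32
  have w2 : (x * xc s x 1 * xc s x 2 * xc s x 3) ^ 2 =
      (cc2 s x * cc2 s x * cc1 s x) *
        ((cc2 s x * cc1 s x) * (cc1 s x * (x ^ 2 * x ^ 2) * x ^ 2) * x ^ 2) := by
    have hcc : ∀ g, (cc2 s x * cc2 s x * cc1 s x) * g = g * (cc2 s x * cc2 s x * cc1 s x) :=
      central_mul (central_mul hc2 hc2) hc1
    rw [sq_mul_of_swap hcc sw3, u2, hsq 3]
  have key : x ^ 2 = cc1 s x * cc2 s x := by
    have h4 := hsq 4
    rw [hx4, w2] at h4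
    have e1 : cc2 s x * cc2 s x = 1 := by rw [← pow_two]; exact hc2sq
    have e2 : cc1 s x * cc1 s x = 1 := by rw [← pow_two]; exact hc1sq
    have e3 : x ^ 2 * x ^ 2 = 1 := by rw [← pow_two]; exact hesq
    rw [← h4, e1, e3, one_mul, mul_one]
    calc cc1 s x * (cc2 s x * cc1 s x * (cc1 s x * x ^ 2) * x ^ 2)
        = cc1 s x * (cc2 s x * (cc1 s x * cc1 s x) * (x ^ 2 * x ^ 2)) := by group
      _ = cc1 s x * cc2 s x := by rw [e2, e3, mul_one, mul_one]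
  exact
    { s5 := hs
      c1s := hc1 s
      c1x := hc1 x
      c2s := hc2 s
      c2x := hc2 x
      c1sq := hc1sq
      c2sq := hc2sq
      xsq := key
      x4 := hx4 }

end Cfsg.Agent.Lib.Helper5.C320
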