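import Mathlib
import Cfsg.Agent.Lib.Helper5.C320.B5

/-!
# Groups of order 320, part B6: the class two data of a group of order 320
-/

set_option autoImplicit false

namespace Cfsg.Agent.Lib.Helper5.C320

open scoped commutatorElement

/-- the structural facts on a group of order 320 used to find the generators -/
structure C2Data (G : Type*) [Group G] (Z : Subgroup G) (σ : G) : Prop where
  ZQ : Z ≤ commutator G
  σ5 : σ ^ 5 = 1
  sup : commutator G ⊔ Subgroup.zpowers σ = ⊤
  Zc : ∀ z ∈ Z, ∀ g : G, z * g = g * z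
  Zexp : ∀ z ∈ Z, z ^ 2 = 1
  comm : ∀ a ∈ commutator G, ∀ b ∈ commutator G, a * b * a⁻¹ * b⁻¹ ∈ Z
  sq : ∀ a ∈ commutator G, a ^ 2 ∈ Z
  fix : ∀ a ∈ commutator G, σ * a * σ⁻¹ * a⁻¹ ∈ Z → a ∈ Z
  inv : ∀ H : Subgroup G, H ≤ commutator G → (∀ y ∈ H, σ * y * σ⁻¹ ∈ H) →
    H ≤ Z ∨ commutator G ≤ H ⊔ Z
  prod5 : ∀ a0 ∈ commutator G, ∀ a1 ∈ commutator G, ∀ a2 ∈ commutator G, ∀ a3 ∈ commutator G,
    ∀ a4 ∈ commutator G, (a1 * a2 * a3 * a4 * a0) * (a0 * a1 * a2 * a3 * a4)⁻¹ ∈ Z

variable {G : Type*} [Group G]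

theorem card_cases4 {c : ℕ} (hd : c ∣ 4) (hm : 4 ≡ c [MOD 5]) : c = 4 := by
  have hle : c ≤ 4 := Nat.le_of_dvd (by norm_num) hd
  unfold Nat.ModEq at hm
  interval_cases c <;> omega

theorem c2data_of_hyp [Finite G] (hG : Nat.card G = 320)
    (hQ : Nat.card (commutator G) = 64) (Z : Subgroup G)
    (hZmem : ∀ z, z ∈ Z ↔ z ∈ commutator G ∧ ∀ q ∈ commutator G, q * z = z * q)
    (hZcard : Nat.card Z = 4) (hZexp : ∀ z ∈ Z, z ^ 2 = 1) :
    ∃ σ : G, C2Data G Z σ := by
  classical
  have hZQ : Z ≤ commutator G := fun z hz => ((hZmem z).mp hz).1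
  have hQn : ∀ q ∈ commutator G, ∀ g : G, g * q * g⁻¹ ∈ commutator G := fun q hq g =>
    (inferInstance : (commutator G).Normal).conj_mem q hq g
  haveI : Fact (Nat.Prime 5) := ⟨by norm_num⟩
  obtain ⟨σ, hσ⟩ := exists_prime_orderOf_dvd_card' (G := G) 5 (by rw [hG]; norm_num)
  have hσ5 : σ ^ 5 = 1 := by rw [← hσ]; exact pow_orderOf_eq_one σ
  have hσQ : σ ∉ commutator G := by
    intro h
    have h1 : orderOf (⟨σ, h⟩ : commutator G) ∣ Nat.card (commutator G) := orderOf_dvd_natCard _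
    rw [Subgroup.orderOf_mk, hσ, hQ] at h1
    norm_num at h1
  have hsup : commutator G ⊔ Subgroup.zpowers σ = ⊤ :=
    sup_zpowers_eq_top (commutator G) 64 (by norm_num) (by rw [hG]) hQ σ hσ5 hσQ
  -- Z is normal
  have hZnorm : ∀ z ∈ Z, ∀ g : G, g * z * g⁻¹ ∈ Z := by
    intro z hz g
    obtain ⟨hzQ, hzc⟩ := (hZmem z).mp hz
    rw [hZmem]
    refine ⟨hQn z hzQ g, ?_⟩
    intro q hq
    have hq' : g⁻¹ * q * g ∈ commutator G := by
      have := hQn q hq g⁻¹
      simpa using this
    have := hzc _ hq'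
    calc q * (g * z * g⁻¹) = g * ((g⁻¹ * q * g) * z) * g⁻¹ := by group
      _ = g * (z * (g⁻¹ * q * g)) * g⁻¹ := by rw [this]
      _ = g * z * g⁻¹ * q := by group
  -- σ centralizes Z
  have hσZ : ∀ z ∈ Z, z * σ = σ * z := by
    have h1 := card_modEq_card_inf_centralizer σ hσ5 Z (fun y hy => hZnorm y hy σ)
    rw [hZcard] at h1
    have h2 : Nat.card ↥(Z ⊓ Subgroup.centralizer {σ}) ∣ 4 := by
      rw [← hZcard]; exact Subgroup.card_dvd_of_le inf_le_left
    have h3 := card_cases4 h2 h1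
    have heq : Z ⊓ Subgroup.centralizer {σ} = Z :=
      Subgroup.eq_of_le_of_card_ge inf_le_left (by rw [h3, hZcard])
    intro z hz
    have : z ∈ Z ⊓ Subgroup.centralizer {σ} := by rw [heq]; exact hz
    have h4 := (Subgroup.mem_inf.mp this).2
    rw [Subgroup.mem_centralizer_iff] at h4
    exact (h4 σ rfl).symm
  have hZc : ∀ z ∈ Z, ∀ g : G, z * g = g * z := by
    intro z hz g
    have hle : commutator G ⊔ Subgroup.zpowers σ ≤ Subgroup.centralizer {z} := by
      apply sup_le
      · intro q hq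
        rw [Subgroup.mem_centralizer_iff]
        intro u hu
        rw [Set.mem_singleton_iff] at hu
        rw [hu]
        exact (((hZmem z).mp hz).2 q hq).symm
      · rw [Subgroup.zpowers_le, Subgroup.mem_centralizer_iff]
        intro u hu
        rw [Set.mem_singleton_iff] at hu
        rw [hu]
        exact hσZ z hz
    have hg : g ∈ Subgroup.centralizer {z} := hle (by rw [hsup]; trivial)
    rw [Subgroup.mem_centralizer_iff] at hg
    exact hg z rfl
  -- the quotient
  haveI hZn : Z.Normal := ⟨fun z hz g => hZnorm z hz g⟩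
  have hπsurj : Function.Surjective (QuotientGroup.mk' Z) := QuotientGroup.mk'_surjective Z
  have hker : (QuotientGroup.mk' Z).ker = Z := QuotientGroup.ker_mk' Z
  have memZ : ∀ g : G, QuotientGroup.mk' Z g = 1 ↔ g ∈ Z := fun g => by
    rw [← MonoidHom.mem_ker, hker]
  have hKcard : Nat.card (G ⧸ Z) = 80 := by
    have := Subgroup.card_eq_card_quotient_mul_card_subgroup Z
    rw [hG, hZcard] at this
    omega
  have hcomK : commutator (G ⧸ Z) = (commutator G).map (QuotientGroup.mk' Z) := by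
    rw [commutator_def, commutator_def, Subgroup.map_commutator,
      Subgroup.map_top_of_surjective _ hπsurj]
  have hNcard : Nat.card (commutator (G ⧸ Z)) = 16 := by
    rw [hcomK]
    have h1 : ((commutator G).map (QuotientGroup.mk' Z)).comap (QuotientGroup.mk' Z) =
        commutator G := by
      rw [Subgroup.comap_map_eq, hker, sup_eq_left.mpr hZQ]
    have h2 : ((commutator G).map (QuotientGroup.mk' Z)).index = (commutator G).index := by
      conv_rhs => rw [← h1]
      rw [Subgroup.index_comap_of_surjective _ hπsurj]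
    have h3 := Subgroup.card_mul_index (commutator G)
    have h4 := Subgroup.card_mul_index ((commutator G).map (QuotientGroup.mk' Z))
    rw [hQ, hG] at h3
    rw [h2, hKcard] at h4
    have h5 : (commutator G).index = 5 := by omega
    rw [h5] at h4
    omega
  have hτ5 : (QuotientGroup.mk' Z σ) ^ 5 = 1 := by rw [← map_pow, hσ5, map_one]
  have hτN : QuotientGroup.mk' Z σ ∉ commutator (G ⧸ Z) := by
    rw [hcomK]
    rintro ⟨q, hq, e⟩
    apply hσQ
    have h1 : QuotientGroup.mk' Z (q⁻¹ * σ) = 1 := by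
      rw [map_mul, map_inv, e]; group
    have h2 : q⁻¹ * σ ∈ commutator G := hZQ ((memZ _).mp h1)
    have : σ = q * (q⁻¹ * σ) := by group
    rw [this]
    exact Subgroup.mul_mem _ hq h2
  obtain ⟨hab, hsq, hfix, hinv⟩ := order80 hKcard hNcard _ hτ5 hτN
  have hπQ : ∀ a ∈ commutator G, QuotientGroup.mk' Z a ∈ commutator (G ⧸ Z) := by
    intro a ha
    rw [hcomK]
    exact Subgroup.mem_map_of_mem _ ha
  refine ⟨σ, ?_⟩
  refine
    { ZQ := hZQ
      σ5 := hσ5
      sup := hsup
      Zc := hZc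
      Zexp := hZexp
      comm := ?_
      sq := ?_
      fix := ?_
      inv := ?_
      prod5 := ?_ }
  · intro a ha b hb
    rw [← memZ]
    simp only [map_mul, map_inv]
    rw [hab _ (hπQ a ha) _ (hπQ b hb)]
    group
  · intro a ha
    rw [← memZ, map_pow]
    exact hsq _ (hπQ a ha)
  · intro a ha h
    rw [← memZ] at h ⊢
    apply hfix _ (hπQ a ha)
    simp only [map_mul, map_inv] at h
    exact mul_inv_eq_one.mp h
  · intro H hH hHinv
    have h1 : H.map (QuotientGroup.mk' Z) ≤ commutator (G ⧸ Z) := by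
      rw [hcomK]; exact Subgroup.map_mono hH
    have h2 : ∀ y ∈ H.map (QuotientGroup.mk' Z),
        QuotientGroup.mk' Z σ * y * (QuotientGroup.mk' Z σ)⁻¹ ∈ H.map (QuotientGroup.mk' Z) := by
      rintro _ ⟨y, hy, rfl⟩
      refine ⟨σ * y * σ⁻¹, hHinv y hy, ?_⟩
      simp only [map_mul, map_inv]
    rcases hinv _ h1 h2 with h | h
    · left
      intro y hy
      rw [← memZ]
      have : QuotientGroup.mk' Z y ∈ H.map (QuotientGroup.mk' Z) := Subgroup.mem_map_of_mem _ hy
      rw [h] at this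
      exact Subgroup.mem_bot.mp this
    · right
      have h3 : (H.map (QuotientGroup.mk' Z)).comap (QuotientGroup.mk' Z) = H ⊔ Z := by
        rw [Subgroup.comap_map_eq, hker]
      rw [← h3, h, hcomK]
      exact Subgroup.le_comap_map _ _
  · intro a0 h0 a1 h1 a2 h2 a3 h3 a4 h4
    rw [← memZ]
    simp only [map_mul, map_inv]
    have hb : QuotientGroup.mk' Z a1 * QuotientGroup.mk' Z a2 * QuotientGroup.mk' Z a3 *
        QuotientGroup.mk' Z a4 ∈ commutator (G ⧸ Z) :=
      Subgroup.mul_mem _ (Subgroup.mul_mem _ (Subgroup.mul_mem _ (hπQ a1 h1) (hπQ a2 h2))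
        (hπQ a3 h3)) (hπQ a4 h4)
    rw [hab _ hb _ (hπQ a0 h0)]
    group

end Cfsg.Agent.Lib.Helper5.C320
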