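import Mathlib
import Cfsg.Agent.Lib.Helper5.C320.B6

/-!
# Groups of order 320, part B7: generators and relations
-/

set_option autoImplicit false

namespace Cfsg.Agent.Lib.Helper5.C320

open scoped commutatorElement

variable {G : Type*} [Group G]

theorem mul_central_sq {a b z : G} (hz : ∀ g, z * g = g * z) (hz2 : z * z = 1) :
    (a * z) * (b * z) = a * b := by
  calc (a * z) * (b * z) = a * (z * b) * z := by group
    _ = a * (b * z) * z := by rw [hz b]
    _ = a * b * (z * z) := by group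
    _ = a * b := by rw [hz2, mul_one]

theorem exists_rel_of_c2data {Z : Subgroup G} {σ : G} (h : C2Data G Z σ) (x : G)
    (hxQ : x ∈ commutator G) (hxZ : x ∉ Z) :
    ∃ s x' : G, Rel s x' ∧ Subgroup.closure {s, x'} = ⊤ := by
  have hQn : ∀ q ∈ commutator G, ∀ g : G, g * q * g⁻¹ ∈ commutator G := fun q hq g =>
    (inferInstance : (commutator G).Normal).conj_mem q hq g
  have hXQ : ∀ (u : G), u ∈ commutator G → ∀ i, xc σ u i ∈ commutator G := fun u hu i =>
    hQn u hu (σ ^ i)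
  have hX5 : ∀ u : G, xc σ u 5 = u := fun u => by
    have := xc_five_add' u h.σ5 0
    rw [xc_zero] at this
    exact this
  -- the product of the five conjugates lies in Z
  set y := x * xc σ x 1 * xc σ x 2 * xc σ x 3 * xc σ x 4 with hy
  have hyQ : y ∈ commutator G :=
    Subgroup.mul_mem _ (Subgroup.mul_mem _ (Subgroup.mul_mem _ (Subgroup.mul_mem _ hxQ
      (hXQ x hxQ 1)) (hXQ x hxQ 2)) (hXQ x hxQ 3)) (hXQ x hxQ 4)
  have hyconj : σ * y * σ⁻¹ = xc σ x 1 * xc σ x 2 * xc σ x 3 * xc σ x 4 * x := by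
    have e1 : xc σ x 1 = σ * x * σ⁻¹ := by rw [xc_succ, xc_zero]
    have e2 : xc σ x 2 = σ * xc σ x 1 * σ⁻¹ := xc_succ σ x 1
    have e3 : xc σ x 3 = σ * xc σ x 2 * σ⁻¹ := xc_succ σ x 2
    have e4 : xc σ x 4 = σ * xc σ x 3 * σ⁻¹ := xc_succ σ x 3
    have e5 : x = σ * xc σ x 4 * σ⁻¹ := by rw [← xc_succ]; exact (hX5 x).symm
    calc σ * y * σ⁻¹ = (σ * x * σ⁻¹) * (σ * xc σ x 1 * σ⁻¹) * (σ * xc σ x 2 * σ⁻¹) *
          (σ * xc σ x 3 * σ⁻¹) * (σ * xc σ x 4 * σ⁻¹) := by rw [hy]; group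
      _ = xc σ x 1 * xc σ x 2 * xc σ x 3 * xc σ x 4 * x := by rw [← e1, ← e2, ← e3, ← e4, ← e5]
  have hyZ : y ∈ Z := by
    apply h.fix y hyQ
    rw [hyconj]
    exact h.prod5 x hxQ _ (hXQ x hxQ 1) _ (hXQ x hxQ 2) _ (hXQ x hxQ 3) _ (hXQ x hxQ 4)
  set w := x * xc σ x 1 * xc σ x 2 * xc σ x 3 with hw
  have hwQ : w ∈ commutator G :=
    Subgroup.mul_mem _ (Subgroup.mul_mem _ (Subgroup.mul_mem _ hxQ
      (hXQ x hxQ 1)) (hXQ x hxQ 2)) (hXQ x hxQ 3)
  have hw2 : w ^ 2 ∈ Z := h.sq w hwQ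
  set z₀ := (w ^ 2)⁻¹ * y with hz₀
  have hz₀Z : z₀ ∈ Z := Subgroup.mul_mem _ (Subgroup.inv_mem _ hw2) hyZ
  have hz₀c := h.Zc z₀ hz₀Z
  have hz₀2 : z₀ * z₀ = 1 := by rw [← pow_two]; exact h.Zexp z₀ hz₀Z
  have hX4 : xc σ x 4 = w * z₀ := by
    have : y = w * xc σ x 4 := rfl
    rw [hz₀, this, pow_two]; group
  -- the new generator
  have hxc' : ∀ i, xc σ (x * z₀) i = xc σ x i * z₀ := by
    intro i
    have e0 : ∀ u : G, xc σ u i = σ ^ i * u * (σ ^ i)⁻¹ := fun u => rfl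
    rw [e0, e0]
    calc σ ^ i * (x * z₀) * (σ ^ i)⁻¹ = (σ ^ i * x * (σ ^ i)⁻¹) * (σ ^ i * z₀ * (σ ^ i)⁻¹) := by
          group
      _ = σ ^ i * x * (σ ^ i)⁻¹ * z₀ := by rw [conj_central' hz₀c]
  have hx'Q : x * z₀ ∈ commutator G := Subgroup.mul_mem _ hxQ (h.ZQ hz₀Z)
  have hx'Z : x * z₀ ∉ Z := by
    intro hc
    apply hxZ
    have : x = (x * z₀) * z₀⁻¹ := by group
    rw [this]
    exact Subgroup.mul_mem _ hc (Subgroup.inv_mem _ hz₀Z)
  have hcc1 : cc1 σ (x * z₀) = cc1 σ x := by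
    unfold cc1
    rw [hxc' 1]
    have := commutatorElement_mul_central (a := x) (b := xc σ x 1) hz₀c hz₀c
    rwa [commutatorElement_def, commutatorElement_def] at this
  have hcc2 : cc2 σ (x * z₀) = cc2 σ x := by
    unfold cc2
    rw [hxc' 2]
    have := commutatorElement_mul_central (a := x) (b := xc σ x 2) hz₀c hz₀c
    rwa [commutatorElement_def, commutatorElement_def] at this
  have hrel : Rel σ (x * z₀) := by
    apply rel_of_data σ (x * z₀) Z h.Zc h.Zexp h.σ5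
    · rw [hcc1]; exact h.comm x hxQ _ (hXQ x hxQ 1)
    · rw [hcc2]; exact h.comm x hxQ _ (hXQ x hxQ 2)
    · exact h.sq _ hx'Q
    · rw [hxc' 4, hxc' 1, hxc' 2, hxc' 3, hX4]
      rw [mul_assoc w, hz₀2, mul_one, mul_central_sq hz₀c hz₀2, mul_assoc (x * xc σ x 1),
        mul_central_sq hz₀c hz₀2, hw]
      group
  refine ⟨σ, x * z₀, hrel, ?_⟩
  -- generation
  set x' := x * z₀ with hx'
  set L := Subgroup.closure {σ, x'} with hL
  have hσL : σ ∈ L := Subgroup.subset_closure (by simp)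
  have hx'L : x' ∈ L := Subgroup.subset_closure (by simp)
  have hXL : ∀ i, xc σ x' i ∈ L := fun i =>
    Subgroup.mul_mem _ (Subgroup.mul_mem _ (Subgroup.pow_mem _ hσL i) hx'L)
      (Subgroup.inv_mem _ (Subgroup.pow_mem _ hσL i))
  set S : Set G := {xc σ x' 0, xc σ x' 1, xc σ x' 2, xc σ x' 3, xc σ x' 4} with hS
  have hSL : Subgroup.closure S ≤ L := by
    rw [Subgroup.closure_le]
    intro u hu
    simp only [hS, Set.mem_insert_iff, Set.mem_singleton_iff] at hu
    rcases hu with rfl | rfl | rfl | rfl | rfl <;> exact hXL _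
  have hSQ : Subgroup.closure S ≤ commutator G := by
    rw [Subgroup.closure_le]
    intro u hu
    simp only [hS, Set.mem_insert_iff, Set.mem_singleton_iff] at hu
    rcases hu with rfl | rfl | rfl | rfl | rfl <;> exact hXQ x' hx'Q _
  have hSinv : ∀ u ∈ Subgroup.closure S, σ * u * σ⁻¹ ∈ Subgroup.closure S := by
    apply conj_mem_closure
    intro u hu
    simp only [hS, Set.mem_insert_iff, Set.mem_singleton_iff] at hu
    rcases hu with rfl | rfl | rfl | rfl | rfl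
    · rw [← xc_succ]; exact Subgroup.subset_closure (by simp [hS])
    · rw [← xc_succ]; exact Subgroup.subset_closure (by simp [hS])
    · rw [← xc_succ]; exact Subgroup.subset_closure (by simp [hS])
    · rw [← xc_succ]; exact Subgroup.subset_closure (by simp [hS])
    · rw [← xc_succ, hX5 x', ← xc_zero σ x']; exact Subgroup.subset_closure (by simp [hS])
  have hQle : commutator G ≤ Subgroup.closure S ⊔ Z := by
    rcases h.inv _ hSQ hSinv with h1 | h1
    · exfalso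
      apply hx'Z
      apply h1
      rw [← xc_zero σ x']
      exact Subgroup.subset_closure (by simp [hS])
    · exact h1
  have htop : L ⊔ Z = ⊤ := by
    rw [eq_top_iff, ← h.sup]
    apply sup_le
    · exact hQle.trans (sup_le_sup_right hSL Z)
    · exact (Subgroup.zpowers_le.mpr hσL).trans le_sup_left
  haveI hZn : Z.Normal := ⟨fun z hz g => by
    have : g * z * g⁻¹ = z := by rw [← h.Zc z hz g]; group
    rw [this]; exact hz⟩
  have hdec : ∀ g : G, ∃ l ∈ L, ∃ z ∈ Z, g = l * z := by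
    intro g
    have hg : g ∈ ((L ⊔ Z : Subgroup G) : Set G) := by rw [htop]; trivial
    rw [Subgroup.mul_normal] at hg
    obtain ⟨l, hl, z, hz, rfl⟩ := hg
    exact ⟨l, hl, z, hz, rfl⟩
  have hcomL : commutator G ≤ L := by
    conv_lhs => rw [commutator_def]
    rw [Subgroup.commutator_le]
    intro g₁ _ g₂ _
    obtain ⟨a, ha, t, ht, rfl⟩ := hdec g₁
    obtain ⟨b, hb, u, hu, rfl⟩ := hdec g₂
    rw [commutatorElement_mul_central (h.Zc t ht) (h.Zc u hu)]
    rw [commutatorElement_def]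
    exact L.mul_mem (L.mul_mem (L.mul_mem ha hb) (L.inv_mem ha)) (L.inv_mem hb)
  rw [eq_top_iff, ← htop]
  exact sup_le le_rfl (h.ZQ.trans hcomL)

end Cfsg.Agent.Lib.Helper5.C320
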