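import Mathlib
import Cfsg.Agent.Lib.Helper5.C320.B7

/-!
# Groups of order 320, part B8: uniqueness
-/

set_option autoImplicit false

namespace Cfsg.Agent.Lib.Helper5.C320

variable {G : Type*} [Group G]

/-- A group of order 320 whose derived subgroup has order 64 and centre a four-group is the model. -/
theorem iso_P320_of_hyp [Finite G] (hG : Nat.card G = 320) (hD : Nat.card (commutator G) = 64)
    (hZ : IsKleinFour (Subgroup.center (commutator G))) : Nonempty (G ≃* P320) := by
  classical
  set Z : Subgroup G := (Subgroup.center (commutator G)).map (commutator G).subtype with hZdef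
  have hZmem : ∀ z, z ∈ Z ↔ z ∈ commutator G ∧ ∀ q ∈ commutator G, q * z = z * q := by
    intro z
    constructor
    · rintro ⟨z', hz', rfl⟩
      refine ⟨z'.2, ?_⟩
      intro q hq
      have hz'' : z' ∈ Subgroup.center (commutator G) := hz'
      rw [Subgroup.mem_center_iff] at hz''
      have := hz'' ⟨q, hq⟩
      exact congrArg Subtype.val this
    · rintro ⟨hzQ, hc⟩
      refine ⟨⟨z, hzQ⟩, ?_, rfl⟩
      show (⟨z, hzQ⟩ : commutator G) ∈ Subgroup.center (commutator G)
      rw [Subgroup.mem_center_iff]
      intro q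
      apply Subtype.ext
      exact hc q q.2
  have hZcard : Nat.card Z = 4 := by
    rw [hZdef, Subgroup.card_subtype]
    exact hZ.card_four
  have hZexp : ∀ z ∈ Z, z ^ 2 = 1 := by
    rintro _ ⟨z', hz', rfl⟩
    have h1 : (⟨z', hz'⟩ : Subgroup.center (commutator G)) ^ 2 = 1 := by
      rw [← hZ.exponent_two]; exact Monoid.pow_exponent_eq_one _
    have h2 := congrArg (fun u : Subgroup.center (commutator G) => ((u : commutator G) : G)) h1
    simpa using h2
  obtain ⟨σ, hdata⟩ := c2data_of_hyp hG hD Z hZmem hZcard hZexp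
  have hnot : ¬ commutator G ≤ Z := by
    intro hle
    have := Subgroup.card_le_of_le hle
    rw [hD, hZcard] at this
    norm_num at this
  obtain ⟨x, hxQ, hxZ⟩ := SetLike.not_le_iff_exists.mp hnot
  obtain ⟨s, x', hrel, hgen⟩ := exists_rel_of_c2data hdata x hxQ hxZ
  exact iso_of_rel hG hrel hgen

end Cfsg.Agent.Lib.Helper5.C320
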