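import Mathlib
import Cfsg.Agent.Lib.Helper3.U3g

/-!
# Groups of order 320, part C1: entries of elements of `SU₃` commuting with the swap
-/

set_option autoImplicit false

namespace Cfsg.Agent.Lib.Helper5.C320

open Matrix
open Cfsg.Agent.Lib.Helper3.U3 Cfsg.Agent.Lib.Helper1.SUCenter Cfsg.Agent.Lib.Helper1.HermCount
open Cfsg.Agent.Lib.Helper2.Herm

variable {F : Type*} [Field F] [CharP F 2] [Fintype F]

/-- the matrix of an element of `SU₃` -/
abbrev mat (g : Cfsg.SU 3 F 4) : Matrix (Fin 3) (Fin 3) F :=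
  ((g : Matrix.SpecialLinearGroup (Fin 3) F) : Matrix (Fin 3) (Fin 3) F)

omit [CharP F 2] [Fintype F] in
theorem mat_mul (g h : Cfsg.SU 3 F 4) : mat (g * h) = mat g * mat h := rfl

omit [CharP F 2] [Fintype F] in
theorem mat_one : mat (1 : Cfsg.SU 3 F 4) = 1 := rfl

/-- the columns of a unitary matrix are orthonormal -/
theorem unitary_entries (g : Cfsg.SU 3 F 4) (i j : Fin 3) :
    mat g 0 i * mat g 0 j ^ 4 + mat g 1 i * mat g 1 j ^ 4 + mat g 2 i * mat g 2 j ^ 4 =
      if i = j then 1 else 0 := by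
  have h := SU_preserves g (Pi.single i 1) (Pi.single j 1)
  rw [Matrix.mulVec_single_one, Matrix.mulVec_single_one, herm3, herm3] at h
  have e : ∀ a b : Fin 3, (mat g).col a b = mat g b a := fun a b => rfl
  rw [e, e, e, e, e, e] at h
  rw [h]
  fin_cases i <;> fin_cases j <;> simp

end Cfsg.Agent.Lib.Helper5.C320
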