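import Mathlib
import Cfsg.Agent.Lib.Helper5.C320.C1

/-!
# Groups of order 320, part C2: the parameters of an element commuting with the swap
-/

set_option autoImplicit false

namespace Cfsg.Agent.Lib.Helper5.C320

variable {F : Type*} [Field F]

/-- the arithmetic behind the decomposition of the centralizer -/
theorem cent_params (a b c d e : F) (h16 : ∀ x : F, x ^ 16 = x) (h2 : (2 : F) = 0)
    (U2 : a * a ^ 4 + b * b ^ 4 + d * d ^ 4 = 1) (U3 : a * b ^ 4 + b * a ^ 4 + d * d ^ 4 = 0)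
    (U4 : a * c ^ 4 + b * c ^ 4 + d * e ^ 4 = 0) (hdet : (a + b) ^ 2 * e = 1) :
    (a + b) ^ 5 = 1 ∧ e = (a + b) ^ 3 ∧ c = (a + b) * (d * (a + b) ^ 2) ^ 4 ∧
    d = (a + b) ^ 3 * (d * (a + b) ^ 2) ∧
    b = (a + b) * (b * (a + b) ^ 4) ∧
    (b * (a + b) ^ 4 + d * (a + b) ^ 2 + (d * (a + b) ^ 2) ^ 4) +
      (b * (a + b) ^ 4 + d * (a + b) ^ 2 + (d * (a + b) ^ 2) ^ 4) ^ 4 =
        (d * (a + b) ^ 2) ^ 5 := by
  generalize hl' : a + b = l at *
  have hl : l = a + b := hl'.symm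
  have h1 : l ^ 5 = 1 := by
    rw [hl]
    linear_combination U2 + U3 +
      (2 * a ^ 4 * b + 5 * a ^ 3 * b ^ 2 + 5 * a ^ 2 * b ^ 3 + 2 * a * b ^ 4 - d ^ 5) * h2
  have he : e = l ^ 3 := by
    linear_combination (-e) * h1 + l ^ 3 * hdet
  have hU4 : l * c ^ 4 + d * l ^ 2 = 0 := by
    have : l * c ^ 4 + d * e ^ 4 = 0 := by rw [hl]; linear_combination U4
    rw [he] at this
    linear_combination this - d * l ^ 2 * (l ^ 5 + 1) * h1
  have hc4 : c ^ 4 = d * l := by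
    linear_combination l ^ 4 * hU4 - c ^ 4 * h1 - d * l * h1 - d * l * h2
  have hc : c = l * (d * l ^ 2) ^ 4 := by
    have e1 : c = (c ^ 4) ^ 4 := by rw [← pow_mul]; exact (h16 c).symm
    rw [e1, hc4]
    linear_combination (-(d ^ 4 * l ^ 4)) * h1
  have hd : d = l ^ 3 * (d * l ^ 2) := by
    linear_combination (-d) * h1
  have hb : b = l * (b * l ^ 4) := by
    linear_combination (-b) * h1
  refine ⟨h1, he, hc, hd, hb, ?_⟩
  have add4 : ∀ x y : F, (x + y) ^ 4 = x ^ 4 + y ^ 4 := fun x y => by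
    linear_combination (2 * x ^ 3 * y + 3 * x ^ 2 * y ^ 2 + 2 * x * y ^ 3) * h2
  have hl16 : l ^ 16 = l := h16 l
  have hβ16 : ((d * l ^ 2) ^ 4) ^ 4 = d * l ^ 2 := by rw [← pow_mul]; exact h16 _
  have hγ4 : (b * l ^ 4 + d * l ^ 2 + (d * l ^ 2) ^ 4) ^ 4 =
      b ^ 4 * l + (d * l ^ 2) ^ 4 + d * l ^ 2 := by
    rw [add4, add4, hβ16]
    linear_combination b ^ 4 * hl16
  have hd5 : d ^ 5 = l * b ^ 4 + b * l ^ 4 := by
    have ha : a = l + (-b) := by rw [hl]; ring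
    have h4 : a ^ 4 = l ^ 4 + b ^ 4 := by rw [ha, add4]; ring
    have U3' := U3
    rw [h4] at U3'
    rw [ha] at U3'
    linear_combination U3' - (l * b ^ 4 + b * l ^ 4) * h2
  rw [hγ4]
  linear_combination (-(l ^ 10)) * hd5 + ((-(l * b ^ 4 + b * l ^ 4)) * (l ^ 5 + 1)) * h1
    + (d * l ^ 2 + (d * l ^ 2) ^ 4) * h2

end Cfsg.Agent.Lib.Helper5.C320
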