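import Mathlib
import Cfsg.Agent.Lib.Helper5.C320.C2

/-!
# Groups of order 320, part C3: the centralizer of the swap in `SU₃(4)`
-/

set_option autoImplicit false

namespace Cfsg.Agent.Lib.Helper5.C320

open Matrix
open Cfsg.Agent.Lib.Helper3.U3 Cfsg.Agent.Lib.Helper1.SUCenter Cfsg.Agent.Lib.Helper1.HermCount
open Cfsg.Agent.Lib.Helper2.Herm

variable {F : Type*} [Field F] [CharP F 2] [Fintype F]

theorem valid01 : (1 : F) + 1 ^ 4 = (0 : F) ^ (4 + 1) := by
  simp [CharTwo.add_self_eq_zero]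

/-- the involution: the matrix swapping the first two coordinates -/
def tI (hF : Fintype.card F = 4 ^ 2) : Cfsg.SU 3 F 4 := xU hF 0 1 valid01

theorem mat_tI (hF : Fintype.card F = 4 ^ 2) : mat (tI hF) = !![0, 1, 0; 1, 0, 0; 0, 0, 1] := by
  show Xm (0 : F) (0 ^ 4) 1 = _
  ext i j
  fin_cases i <;> fin_cases j <;> simp [Xm, CharTwo.add_self_eq_zero]

/-- the shape of a matrix commuting with the swap -/
theorem shape_of_comm (hF : Fintype.card F = 4 ^ 2) (g : Cfsg.SU 3 F 4)
    (hg : g * tI hF = tI hF * g) :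
    mat g 1 0 = mat g 0 1 ∧ mat g 1 1 = mat g 0 0 ∧ mat g 1 2 = mat g 0 2 ∧
      mat g 2 1 = mat g 2 0 := by
  have h := congrArg mat hg
  rw [mat_mul, mat_mul, mat_tI] at h
  have h00 := congrFun (congrFun h 0) 0
  have h01 := congrFun (congrFun h 0) 1
  have h02 := congrFun (congrFun h 0) 2
  have h20 := congrFun (congrFun h 2) 0
  simp [Matrix.mul_apply, Fin.sum_univ_three] at h00 h01 h02 h20
  exact ⟨h00.symm, h01.symm, h02.symm, h20⟩

theorem pow16 (hF : Fintype.card F = 4 ^ 2) (x : F) : x ^ 16 = x := by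
  have := FiniteField.pow_card x
  rw [hF] at this
  norm_num at this
  exact this

/-- the torus element `diag(l, l, l³)` -/
def hT (l : F) (hl : l ^ 5 = 1) : Cfsg.SU 3 F 4 :=
  diagSU ![l, l, l ^ 3]
    (by
      intro i
      fin_cases i
      · show l * l ^ 4 = 1
        rw [← pow_succ']; exact hl
      · show l * l ^ 4 = 1
        rw [← pow_succ']; exact hl
      · show l ^ 3 * (l ^ 3) ^ 4 = 1
        have : l ^ 3 * (l ^ 3) ^ 4 = (l ^ 5) ^ 3 := by ring
        rw [this, hl, one_pow])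
    (by
      rw [Fin.prod_univ_three]
      show l * l * l ^ 3 = 1
      have : l * l * l ^ 3 = l ^ 5 := by ring
      rw [this, hl])

theorem mat_hT (l : F) (hl : l ^ 5 = 1) : mat (hT l hl) = Matrix.diagonal ![l, l, l ^ 3] := rfl

end Cfsg.Agent.Lib.Helper5.C320
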