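import Mathlib
import Cfsg.Agent.Lib.Helper5.C320.C3

/-!
# Groups of order 320, part C4: decomposition of the centralizer of the swap
-/

set_option autoImplicit false

namespace Cfsg.Agent.Lib.Helper5.C320

open Matrix
open Cfsg.Agent.Lib.Helper3.U3 Cfsg.Agent.Lib.Helper1.SUCenter Cfsg.Agent.Lib.Helper1.HermCount
open Cfsg.Agent.Lib.Helper2.Herm

variable {F : Type*} [Field F] [CharP F 2] [Fintype F]

theorem decomp (hF : Fintype.card F = 4 ^ 2) (g : Cfsg.SU 3 F 4)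
    (hg : g * tI hF = tI hF * g) :
    ∃ (l : F) (hl : l ^ 5 = 1) (β γ : F) (hval : γ + γ ^ 4 = β ^ (4 + 1)),
      g = hT l hl * xU hF β γ hval := by
  obtain ⟨s10, s11, s12, s21⟩ := shape_of_comm hF g hg
  have h2 : (2 : F) = 0 := CharTwo.two_eq_zero
  have U2 := unitary_entries g 0 0
  have U3 := unitary_entries g 0 1
  have U4 := unitary_entries g 0 2
  rw [s10] at U2
  rw [s10, s11, s21] at U3
  rw [s10, s12] at U4
  simp only [if_true, Fin.isValue] at U2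
  rw [if_neg (by decide)] at U3 U4
  have hdet : (mat g).det = 1 := (g : Matrix.SpecialLinearGroup (Fin 3) F).2
  rw [Matrix.det_fin_three, s10, s11, s12, s21] at hdet
  generalize ha : mat g 0 0 = a at *
  generalize hb : mat g 0 1 = b at *
  generalize hc : mat g 0 2 = c at *
  generalize hd : mat g 2 0 = d at *
  generalize he : mat g 2 2 = e at *
  have hdet' : (a + b) ^ 2 * e = 1 := by
    linear_combination hdet + (a * b * e + b ^ 2 * e - b * c * d + a * c * d) * h2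
  obtain ⟨h1, he', hc', hd', hb', hval⟩ := cent_params a b c d e (pow16 hF) h2 U2 U3 U4 hdet'
  refine ⟨a + b, h1, d * (a + b) ^ 2,
    b * (a + b) ^ 4 + d * (a + b) ^ 2 + (d * (a + b) ^ 2) ^ 4, hval, ?_⟩
  apply SU_ext
  show mat g = mat (hT (a + b) h1 * xU hF _ _ hval)
  rw [mat_mul, mat_hT]
  show mat g = Matrix.diagonal ![a + b, a + b, (a + b) ^ 3] *
    Xm (d * (a + b) ^ 2) ((d * (a + b) ^ 2) ^ 4)
      (b * (a + b) ^ 4 + d * (a + b) ^ 2 + (d * (a + b) ^ 2) ^ 4)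
  have hX : d * (a + b) ^ 2 + (d * (a + b) ^ 2) ^ 4 +
      (b * (a + b) ^ 4 + d * (a + b) ^ 2 + (d * (a + b) ^ 2) ^ 4) = b * (a + b) ^ 4 := by
    linear_combination (d * (a + b) ^ 2 + (d * (a + b) ^ 2) ^ 4) * h2
  ext i j
  rw [Matrix.diagonal_mul]
  fin_cases i <;> fin_cases j
  · show mat g 0 0 = (a + b) * (1 + (d * (a + b) ^ 2 + (d * (a + b) ^ 2) ^ 4 + (b * (a + b) ^ 4 + d * (a + b) ^ 2 + (d * (a + b) ^ 2) ^ 4)))
    rw [ha, hX]
    linear_combination hb' - b * h2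
  · show mat g 0 1 = (a + b) * (d * (a + b) ^ 2 + (d * (a + b) ^ 2) ^ 4 + (b * (a + b) ^ 4 + d * (a + b) ^ 2 + (d * (a + b) ^ 2) ^ 4))
    rw [hb, hX]
    exact hb'
  · show mat g 0 2 = (a + b) * (d * (a + b) ^ 2) ^ 4
    rw [hc]
    exact hc'
  · show mat g 1 0 = (a + b) * (d * (a + b) ^ 2 + (d * (a + b) ^ 2) ^ 4 + (b * (a + b) ^ 4 + d * (a + b) ^ 2 + (d * (a + b) ^ 2) ^ 4))
    rw [s10, hX]
    exact hb'
  · show mat g 1 1 = (a + b) * (1 + (d * (a + b) ^ 2 + (d * (a + b) ^ 2) ^ 4 + (b * (a + b) ^ 4 + d * (a + b) ^ 2 + (d * (a + b) ^ 2) ^ 4)))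
    rw [s11, hX]
    linear_combination hb' - b * h2
  · show mat g 1 2 = (a + b) * (d * (a + b) ^ 2) ^ 4
    rw [s12]
    exact hc'
  · show mat g 2 0 = (a + b) ^ 3 * (d * (a + b) ^ 2)
    rw [hd]
    exact hd'
  · show mat g 2 1 = (a + b) ^ 3 * (d * (a + b) ^ 2)
    rw [s21]
    exact hd'
  · show mat g 2 2 = (a + b) ^ 3 * 1
    rw [he, mul_one]
    exact he'

end Cfsg.Agent.Lib.Helper5.C320
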