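import Mathlib
import Cfsg.Agent.Lib.Helper5.C320.C4

/-!
# Groups of order 320, part C5: the torus, the unipotent group and the character
-/

set_option autoImplicit false

namespace Cfsg.Agent.Lib.Helper5.C320

open Matrix
open Cfsg.Agent.Lib.Helper3.U3 Cfsg.Agent.Lib.Helper1.SUCenter Cfsg.Agent.Lib.Helper1.HermCount
open Cfsg.Agent.Lib.Helper2.Herm

variable {F : Type*} [Field F] [CharP F 2] [Fintype F]

theorem hT_mul (l l' : F) (hl : l ^ 5 = 1) (hl' : l' ^ 5 = 1) :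
    hT l hl * hT l' hl' = hT (l * l') (by rw [mul_pow, hl, hl', one_mul]) := by
  apply SU_ext
  show mat (hT l hl * hT l' hl') = mat (hT (l * l') _)
  rw [mat_mul, mat_hT, mat_hT, mat_hT, Matrix.diagonal_mul_diagonal]
  congr 1
  funext i
  fin_cases i
  · rfl
  · rfl
  · show l ^ 3 * l' ^ 3 = (l * l') ^ 3
    ring

theorem hT_one : hT (1 : F) (one_pow 5) = 1 := by
  apply SU_ext
  show mat (hT (1 : F) _) = mat 1
  rw [mat_hT, mat_one]
  ext i j
  fin_cases i <;> fin_cases j <;> simp [Matrix.diagonal]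

theorem hT_congr {l l' : F} (hl : l ^ 5 = 1) (h : l = l') :
    hT l hl = hT l' (by rw [← h]; exact hl) := by
  subst h; rfl

theorem hT_inv (l : F) (hl : l ^ 5 = 1) :
    (hT l hl)⁻¹ = hT (l ^ 4) (by rw [← pow_mul, mul_comm, pow_mul, hl, one_pow]) := by
  rw [inv_eq_iff_mul_eq_one, hT_mul, ← hT_one]
  apply hT_congr
  rw [← pow_succ']; exact hl

/-- the torus commutes with the swap -/
theorem hT_comm_tI (hF : Fintype.card F = 4 ^ 2) (l : F) (hl : l ^ 5 = 1) :
    hT l hl * tI hF = tI hF * hT l hl := by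
  apply SU_ext
  show mat (hT l hl * tI hF) = mat (tI hF * hT l hl)
  rw [mat_mul, mat_mul, mat_hT, mat_tI]
  ext i j
  fin_cases i <;> fin_cases j <;> simp [Matrix.mul_apply, Fin.sum_univ_three, Matrix.diagonal]

/-- the unipotent elements commute with the swap -/
theorem xU_comm_tI (hF : Fintype.card F = 4 ^ 2) (β γ : F) (hval : γ + γ ^ 4 = β ^ (4 + 1)) :
    xU hF β γ hval * tI hF = tI hF * xU hF β γ hval := by
  unfold tI
  rw [xU_mul, xU_mul]
  apply xU_congr
  · rw [add_comm]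
  · simp [add_comm]

/-- the character: the lower right entry -/
theorem chi_mul (hF : Fintype.card F = 4 ^ 2) (g h : Cfsg.SU 3 F 4)
    (hg : g * tI hF = tI hF * g) (hh : h * tI hF = tI hF * h) :
    mat (g * h) 2 2 = mat g 2 2 * mat h 2 2 := by
  obtain ⟨-, -, -, s21⟩ := shape_of_comm hF g hg
  obtain ⟨-, -, t12, -⟩ := shape_of_comm hF h hh
  rw [mat_mul, Matrix.mul_apply, Fin.sum_univ_three, s21, t12]
  have h2 : ∀ y : F, y + y = 0 := CharTwo.add_self_eq_zero
  linear_combination h2 (mat g 2 0 * mat h 0 2)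

theorem chi_hT (l : F) (hl : l ^ 5 = 1) : mat (hT l hl) 2 2 = l ^ 3 := by
  rw [mat_hT]; simp [Matrix.diagonal]

theorem chi_xU (hF : Fintype.card F = 4 ^ 2) (β γ : F) (hval : γ + γ ^ 4 = β ^ (4 + 1)) :
    mat (xU hF β γ hval) 2 2 = 1 := by
  show Xm β (β ^ 4) γ 2 2 = 1
  simp [Xm]

theorem b20_xU (hF : Fintype.card F = 4 ^ 2) (β γ : F) (hval : γ + γ ^ 4 = β ^ (4 + 1)) :
    mat (xU hF β γ hval) 2 0 = β := by
  show Xm β (β ^ 4) γ 2 0 = β
  simp [Xm]

/-- elements of the centralizer with trivial character are unipotent -/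
theorem mem_Usu_of_chi (hF : Fintype.card F = 4 ^ 2) (g : Cfsg.SU 3 F 4)
    (hg : g * tI hF = tI hF * g) (hchi : mat g 2 2 = 1) : g ∈ Usu hF := by
  obtain ⟨l, hl, β, γ, hval, rfl⟩ := decomp hF g hg
  rw [chi_mul hF _ _ (hT_comm_tI hF l hl) (xU_comm_tI hF β γ hval), chi_hT, chi_xU, mul_one]
    at hchi
  have hl1 : l = 1 := by
    have : l = (l ^ 3) ^ 2 * (l ^ 5)⁻¹ := by
      rw [hl, inv_one, mul_one, ← pow_mul]
      have : l ^ (3 * 2) = l ^ 5 * l := by ring
      rw [this, hl, one_mul]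
    rw [this, hchi, hl, one_pow, inv_one, mul_one]
  have : hT l hl = 1 := by
    rw [← hT_one]; exact hT_congr hl hl1
  rw [this, one_mul]
  exact ⟨β, γ, hval, rfl⟩

end Cfsg.Agent.Lib.Helper5.C320
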