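import Mathlib
import Cfsg.Agent.Lib.Helper5.C320.C5

/-!
# Groups of order 320, part C6: the order of the centralizer of the swap
-/

set_option autoImplicit false

namespace Cfsg.Agent.Lib.Helper5.C320

open Matrix
open Cfsg.Agent.Lib.Helper3.U3 Cfsg.Agent.Lib.Helper1.SUCenter Cfsg.Agent.Lib.Helper1.HermCount
open Cfsg.Agent.Lib.Helper2.Herm

variable {F : Type*} [Field F] [CharP F 2] [Fintype F]

/-- the centralizer of the swap -/
def Ct (hF : Fintype.card F = 4 ^ 2) : Subgroup (Cfsg.SU 3 F 4) := Subgroup.centralizer {tI hF}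

theorem mem_Ct (hF : Fintype.card F = 4 ^ 2) (g : Cfsg.SU 3 F 4) :
    g ∈ Ct hF ↔ g * tI hF = tI hF * g := by
  unfold Ct
  rw [Subgroup.mem_centralizer_iff]
  constructor
  · intro h; exact (h _ rfl).symm
  · intro h u hu
    rw [Set.mem_singleton_iff] at hu
    rw [hu]; exact h.symm

theorem Usu_le_Ct (hF : Fintype.card F = 4 ^ 2) : Usu hF ≤ Ct hF := by
  rintro _ ⟨β, γ, hval, rfl⟩
  rw [mem_Ct]
  exact xU_comm_tI hF β γ hval

theorem hT_mem_Ct (hF : Fintype.card F = 4 ^ 2) (l : F) (hl : l ^ 5 = 1) : hT l hl ∈ Ct hF := by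
  rw [mem_Ct]
  exact hT_comm_tI hF l hl

theorem card_fifth_roots_le : Nat.card {l : F // l ^ 5 = 1} ≤ 5 := by
  classical
  rw [Nat.card_eq_fintype_card, Fintype.card_subtype]
  have hsub : (Finset.univ.filter (fun l : F => l ^ 5 = 1)) ⊆ (Polynomial.nthRoots 5 (1 : F)).toFinset := by
    intro l hl
    rw [Finset.mem_filter] at hl
    rw [Multiset.mem_toFinset, Polynomial.mem_nthRoots (by norm_num)]
    exact hl.2
  calc (Finset.univ.filter (fun l : F => l ^ 5 = 1)).card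
      ≤ (Polynomial.nthRoots 5 (1 : F)).toFinset.card := Finset.card_le_card hsub
    _ ≤ Multiset.card (Polynomial.nthRoots 5 (1 : F)) := Multiset.toFinset_card_le _
    _ ≤ 5 := Polynomial.card_nthRoots 5 1

theorem exists_fifth_root (hF : Fintype.card F = 4 ^ 2) : ∃ l : F, l ^ 5 = 1 ∧ l ≠ 1 := by
  classical
  haveI : Fact (Nat.Prime 5) := ⟨by norm_num⟩
  have hcard : Fintype.card Fˣ = 15 := by
    rw [Fintype.card_units, hF]; norm_num
  obtain ⟨u, hu⟩ := exists_prime_orderOf_dvd_card 5 (by rw [hcard]; norm_num : 5 ∣ Fintype.card Fˣ)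
  refine ⟨(u : F), ?_, ?_⟩
  · have : u ^ 5 = 1 := by rw [← hu]; exact pow_orderOf_eq_one u
    have h2 := congrArg (fun v : Fˣ => (v : F)) this
    simpa using h2
  · intro h1
    have : u = 1 := Units.ext h1
    rw [this, orderOf_one] at hu
    norm_num at hu

theorem mat_pow (g : Cfsg.SU 3 F 4) (n : ℕ) : mat (g ^ n) = mat g ^ n := by
  induction n with
  | zero => rw [pow_zero, pow_zero]; rfl
  | succ k ih => rw [pow_succ, pow_succ, mat_mul, ih]

theorem hT_pow_five (l : F) (hl : l ^ 5 = 1) : hT l hl ^ 5 = 1 := by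
  apply SU_ext
  show mat (hT l hl ^ 5) = mat 1
  rw [mat_pow, mat_hT, Matrix.diagonal_pow, mat_one]
  ext i j
  fin_cases i <;> fin_cases j <;> simp [Matrix.diagonal, hl]
  have : (l ^ 3) ^ 5 = (l ^ 5) ^ 3 := by ring
  rw [this, hl, one_pow]

theorem hT_ne_one (l : F) (hl : l ^ 5 = 1) (h1 : l ≠ 1) : hT l hl ≠ 1 := by
  intro h
  have := congrArg (fun g => mat g 0 0) h
  simp only [mat_hT, mat_one] at this
  apply h1
  simpa [Matrix.diagonal] using this

theorem card_Ct (hF : Fintype.card F = 4 ^ 2) : Nat.card (Ct hF) = 320 := by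
  classical
  have hU : Nat.card (Usu hF) = 64 := by
    rw [(usuCoord hF).card_eq]; norm_num
  -- upper bound
  let f : {l : F // l ^ 5 = 1} × Usu hF → Cfsg.SU 3 F 4 := fun p => hT p.1.1 p.1.2 * (p.2 : Cfsg.SU 3 F 4)
  have hsub : ((Ct hF : Subgroup (Cfsg.SU 3 F 4)) : Set (Cfsg.SU 3 F 4)) ⊆ Set.range f := by
    intro g hg
    obtain ⟨l, hl, β, γ, hval, rfl⟩ := decomp hF g ((mem_Ct hF g).mp hg)
    exact ⟨(⟨l, hl⟩, ⟨xU hF β γ hval, β, γ, hval, rfl⟩), rfl⟩
  haveI : Finite (Usu hF) := (usuCoord hF).finite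
  have hle : Nat.card (Ct hF) ≤ 320 := by
    calc Nat.card (Ct hF) = ((Ct hF : Subgroup (Cfsg.SU 3 F 4)) : Set (Cfsg.SU 3 F 4)).ncard := rfl
      _ ≤ (Set.range f).ncard := Set.ncard_le_ncard hsub (Set.finite_range f)
      _ ≤ Nat.card ({l : F // l ^ 5 = 1} × Usu hF) := by
          rw [← Set.image_univ]
          exact (Set.ncard_image_le (Set.finite_univ)).trans (by rw [Set.ncard_univ])
      _ = Nat.card {l : F // l ^ 5 = 1} * 64 := by rw [Nat.card_prod, hU]
      _ ≤ 5 * 64 := Nat.mul_le_mul_right 64 card_fifth_roots_le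
      _ = 320 := by norm_num
  -- lower bound
  haveI : Finite (Ct hF) := by
    apply Set.Finite.to_subtype
    exact (Set.finite_range f).subset hsub
  have h64 : 64 ∣ Nat.card (Ct hF) := by
    rw [← hU]; exact Subgroup.card_dvd_of_le (Usu_le_Ct hF)
  obtain ⟨l₀, hl₀, hne⟩ := exists_fifth_root hF
  have h5 : 5 ∣ Nat.card (Ct hF) := by
    let s : Ct hF := ⟨hT l₀ hl₀, hT_mem_Ct hF l₀ hl₀⟩
    have hs5 : s ^ 5 = 1 := Subtype.ext (by
      show (hT l₀ hl₀) ^ 5 = 1
      exact hT_pow_five l₀ hl₀)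
    have hs1 : s ≠ 1 := fun h => hT_ne_one l₀ hl₀ hne (congrArg Subtype.val h)
    have hord : orderOf s = 5 := by
      have hd : orderOf s ∣ 5 := orderOf_dvd_of_pow_eq_one hs5
      rcases (Nat.dvd_prime (by norm_num : Nat.Prime 5)).mp hd with h | h
      · exact absurd (orderOf_eq_one_iff.mp h) hs1
      · exact h
    rw [← hord]; exact orderOf_dvd_natCard s
  have h320 : 320 ∣ Nat.card (Ct hF) := by
    have : Nat.Coprime 64 5 := by norm_num
    have := this.mul_dvd_of_dvd_of_dvd h64 h5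
    simpa using this
  exact le_antisymm hle (Nat.le_of_dvd Nat.card_pos h320)

end Cfsg.Agent.Lib.Helper5.C320
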