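import Mathlib
import Cfsg.Agent.Lib.Helper5.C320.C6
import Cfsg.Agent.Lib.Helper2.U34a

/-!
# Groups of order 320, part C7: the derived subgroup of the centralizer of the swap
-/

set_option autoImplicit false

namespace Cfsg.Agent.Lib.Helper5.C320

open Matrix
open scoped commutatorElement
open Cfsg.Agent.Lib.Helper3.U3 Cfsg.Agent.Lib.Helper1.SUCenter Cfsg.Agent.Lib.Helper1.HermCount
open Cfsg.Agent.Lib.Helper2.Herm Cfsg.Agent.Lib.Helper2.U34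

variable {F : Type*} [Field F] [CharP F 2] [Fintype F]

theorem chi_inv (hF : Fintype.card F = 4 ^ 2) (g : Cfsg.SU 3 F 4) (hg : g ∈ Ct hF) :
    mat g 2 2 * mat g⁻¹ 2 2 = 1 := by
  have h1 := chi_mul hF g g⁻¹ ((mem_Ct hF g).mp hg) ((mem_Ct hF _).mp ((Ct hF).inv_mem hg))
  rw [mul_inv_cancel, mat_one] at h1
  rw [← h1]; simp

theorem chi_comm (hF : Fintype.card F = 4 ^ 2) (g h : Cfsg.SU 3 F 4) (hg : g ∈ Ct hF)
    (hh : h ∈ Ct hF) : mat (g * h * g⁻¹ * h⁻¹) 2 2 = 1 := by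
  have hgi := (Ct hF).inv_mem hg
  have hhi := (Ct hF).inv_mem hh
  have e1 := chi_mul hF (g * h * g⁻¹) h⁻¹
    ((mem_Ct hF _).mp ((Ct hF).mul_mem ((Ct hF).mul_mem hg hh) hgi)) ((mem_Ct hF _).mp hhi)
  have e2 := chi_mul hF (g * h) g⁻¹ ((mem_Ct hF _).mp ((Ct hF).mul_mem hg hh))
    ((mem_Ct hF _).mp hgi)
  have e3 := chi_mul hF g h ((mem_Ct hF _).mp hg) ((mem_Ct hF _).mp hh)
  rw [e1, e2, e3]
  have i1 := chi_inv hF g hg
  have i2 := chi_inv hF h hh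
  calc mat g 2 2 * mat h 2 2 * mat g⁻¹ 2 2 * mat h⁻¹ 2 2
      = (mat g 2 2 * mat g⁻¹ 2 2) * (mat h 2 2 * mat h⁻¹ 2 2) := by ring
    _ = 1 := by rw [i1, i2, one_mul]

/-- commutators of the centralizer are unipotent -/
theorem comm_mem_Usu (hF : Fintype.card F = 4 ^ 2) (g h : Cfsg.SU 3 F 4) (hg : g ∈ Ct hF)
    (hh : h ∈ Ct hF) : g * h * g⁻¹ * h⁻¹ ∈ Usu hF := by
  apply mem_Usu_of_chi hF _ _ (chi_comm hF g h hg hh)
  rw [← mem_Ct]
  exact (Ct hF).mul_mem ((Ct hF).mul_mem ((Ct hF).mul_mem hg hh) ((Ct hF).inv_mem hg))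
    ((Ct hF).inv_mem hh)

/-- the first coordinate of a unipotent element is its lower left entry -/
theorem cb_eq_entry (hF : Fintype.card F = 4 ^ 2) (u : Usu hF) :
    cb (usuCoord hF) u = mat (u : Cfsg.SU 3 F 4) 2 0 := by
  obtain ⟨β, γ, h, rfl⟩ := (usuCoord hF).x_surj u
  rw [cb_x]
  exact (b20_xU hF β γ h).symm

/-- the lower left entry of the commutator of a torus element and a unipotent element -/
theorem b20_comm (hF : Fintype.card F = 4 ^ 2) (l : F) (hl : l ^ 5 = 1) (β γ : F)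
    (hval : γ + γ ^ 4 = β ^ (4 + 1)) :
    mat (hT l hl * xU hF β γ hval * (hT l hl)⁻¹ * (xU hF β γ hval)⁻¹) 2 0 = (l ^ 2 + 1) * β := by
  rw [hT_inv, xU_inv, mat_mul, mat_mul, mat_mul, mat_hT, mat_hT]
  have h2 : (2 : F) = 0 := CharTwo.two_eq_zero
  show (Matrix.diagonal ![l, l, l ^ 3] * Xm β (β ^ 4) γ * Matrix.diagonal ![l ^ 4, l ^ 4, (l ^ 4) ^ 3] *
    Xm β (β ^ 4) (γ + β ^ 4 * β)) 2 0 = _
  simp [Matrix.mul_apply, Fin.sum_univ_three, Matrix.diagonal, Xm]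
  linear_combination (l ^ 2 * β + β * (l ^ 10 + l ^ 5 + 1)) * hl +
    (l ^ 7 * β * (β + β ^ 4 + (γ + β ^ 4 * β))) * h2

end Cfsg.Agent.Lib.Helper5.C320
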