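import Mathlib
import Cfsg.Agent.Lib.Helper5.C320.C7

/-!
# Groups of order 320, part C8: the derived subgroup of the centralizer of the swap is unipotent
-/

set_option autoImplicit false

namespace Cfsg.Agent.Lib.Helper5.C320

open Matrix
open scoped commutatorElement
open Cfsg.Agent.Lib.Helper3.U3 Cfsg.Agent.Lib.Helper1.SUCenter Cfsg.Agent.Lib.Helper1.HermCount
open Cfsg.Agent.Lib.Helper2.Herm Cfsg.Agent.Lib.Helper2.U34

variable {F : Type*} [Field F] [CharP F 2] [Fintype F]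

/-- the image in `SU₃` of the derived subgroup of the centralizer -/
def Kc (hF : Fintype.card F = 4 ^ 2) : Subgroup (Cfsg.SU 3 F 4) :=
  (commutator (Ct hF)).map (Ct hF).subtype

theorem comm_mem_Kc (hF : Fintype.card F = 4 ^ 2) (g h : Cfsg.SU 3 F 4) (hg : g ∈ Ct hF)
    (hh : h ∈ Ct hF) : g * h * g⁻¹ * h⁻¹ ∈ Kc hF := by
  refine ⟨⁅(⟨g, hg⟩ : Ct hF), ⟨h, hh⟩⁆, ?_, ?_⟩
  · rw [SetLike.mem_coe, commutator_def]
    exact Subgroup.commutator_mem_commutator (Subgroup.mem_top _) (Subgroup.mem_top _)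
  · rw [commutatorElement_def]; rfl

theorem Kc_le_Usu (hF : Fintype.card F = 4 ^ 2) : Kc hF ≤ Usu hF := by
  unfold Kc
  rw [Subgroup.map_le_iff_le_comap, commutator_def, Subgroup.commutator_le]
  intro g₁ _ g₂ _
  rw [Subgroup.mem_comap, commutatorElement_def]
  exact comm_mem_Usu hF g₁ g₂ g₁.2 g₂.2

theorem center_Usu_le_Kc (hF : Fintype.card F = 4 ^ 2) (z : Usu hF)
    (hz : z ∈ Subgroup.center (Usu hF)) : (z : Cfsg.SU 3 F 4) ∈ Kc hF := by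
  rw [(usuCoord hF).center_eq_commutator] at hz
  have hle : commutator (Usu hF) ≤ (Kc hF).comap (Usu hF).subtype := by
    rw [commutator_def, Subgroup.commutator_le]
    intro g₁ _ g₂ _
    rw [Subgroup.mem_comap, commutatorElement_def]
    exact comm_mem_Kc hF g₁ g₂ (Usu_le_Ct hF g₁.2) (Usu_le_Ct hF g₂.2)
  exact hle hz

theorem exists_Kc_entry (hF : Fintype.card F = 4 ^ 2) (β : F) :
    ∃ w : Usu hF, (w : Cfsg.SU 3 F 4) ∈ Kc hF ∧ cb (usuCoord hF) w = β := by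
  obtain ⟨l, hl, hne⟩ := exists_fifth_root hF
  have hl2 : l ^ 2 + 1 ≠ 0 := by
    intro h0
    apply hne
    have h2 : l ^ 2 = 1 := by
      have : l ^ 2 + 1 + 1 = 1 := by rw [h0, zero_add]
      rw [add_assoc, CharTwo.add_self_eq_zero, add_zero] at this
      exact this
    have : l = l ^ 5 * ((l ^ 2) ^ 2)⁻¹ := by
      rw [h2, one_pow, inv_one, mul_one]
      have : l ^ 5 = (l ^ 2) ^ 2 * l := by ring
      rw [this, h2, one_pow, one_mul]
    rw [this, hl, h2, one_pow, inv_one, mul_one]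
  set β₁ := β * (l ^ 2 + 1)⁻¹ with hβ₁
  obtain ⟨γ₁, hγ₁⟩ := exists_tr_eq hF (nrm_fixed hF β₁)
  have hmem := comm_mem_Usu hF (hT l hl) (xU hF β₁ γ₁ hγ₁) (hT_mem_Ct hF l hl)
    (Usu_le_Ct hF ⟨β₁, γ₁, hγ₁, rfl⟩)
  refine ⟨⟨_, hmem⟩, comm_mem_Kc hF _ _ (hT_mem_Ct hF l hl) (Usu_le_Ct hF ⟨β₁, γ₁, hγ₁, rfl⟩), ?_⟩
  rw [cb_eq_entry]
  show mat (hT l hl * xU hF β₁ γ₁ hγ₁ * (hT l hl)⁻¹ * (xU hF β₁ γ₁ hγ₁)⁻¹) 2 0 = β
  rw [b20_comm, hβ₁]
  field_simp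

theorem Usu_le_Kc (hF : Fintype.card F = 4 ^ 2) : Usu hF ≤ Kc hF := by
  intro u hu
  obtain ⟨w, hwK, hw⟩ := exists_Kc_entry hF (cb (usuCoord hF) ⟨u, hu⟩)
  have h1 : w⁻¹ * ⟨u, hu⟩ ∈ Subgroup.center (Usu hF) := (cb_eq_iff (usuCoord hF) _ _).mp hw
  have h2 := center_Usu_le_Kc hF _ h1
  have : u = (w : Cfsg.SU 3 F 4) * ((w⁻¹ * ⟨u, hu⟩ : Usu hF) : Cfsg.SU 3 F 4) := by
    simp
  rw [this]
  exact (Kc hF).mul_mem hwK h2

theorem Kc_eq_Usu (hF : Fintype.card F = 4 ^ 2) : Kc hF = Usu hF :=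
  le_antisymm (Kc_le_Usu hF) (Usu_le_Kc hF)

/-- the derived subgroup of the centralizer is isomorphic to the unipotent group -/
noncomputable def commEquiv (hF : Fintype.card F = 4 ^ 2) : commutator (Ct hF) ≃* Usu hF :=
  ((commutator (Ct hF)).equivMapOfInjective (Ct hF).subtype (Ct hF).subtype_injective).trans
    (MulEquiv.subgroupCongr (Kc_eq_Usu hF))

end Cfsg.Agent.Lib.Helper5.C320
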