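import Mathlib
import Cfsg.Agent.Lib.Helper5.C320.C8
import Cfsg.Agent.Lib.Helper5.C320.B8

/-!
# Groups of order 320, part C9: the centralizer of an involution of `PSU₃(4)` is the model
-/

set_option autoImplicit false

namespace Cfsg.Agent.Lib.Helper5.C320

open Matrix
open Cfsg.Agent.Lib.Helper3.U3 Cfsg.Agent.Lib.Helper1.SUCenter Cfsg.Agent.Lib.Helper1.HermCount
open Cfsg.Agent.Lib.Helper2.Herm Cfsg.Agent.Lib.Helper2.U34

/-- an isomorphism of groups induces an isomorphism of centres -/
def centerEquivOfMulEquiv {A B : Type*} [Group A] [Group B] (e : A ≃* B) :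
    Subgroup.center A ≃* Subgroup.center B where
  toFun z := ⟨e z, by
    rw [Subgroup.mem_center_iff]
    intro b
    have h := Subgroup.mem_center_iff.mp z.2 (e.symm b)
    have := congrArg e h
    simpa using this⟩
  invFun z := ⟨e.symm z, by
    rw [Subgroup.mem_center_iff]
    intro a
    have h := Subgroup.mem_center_iff.mp z.2 (e a)
    have := congrArg e.symm h
    simpa using this⟩
  left_inv z := by ext; simp
  right_inv z := by ext; simp
  map_mul' x y := by ext; simp

theorem isKleinFour_center_of_mulEquiv {A B : Type*} [Group A] [Group B] (e : A ≃* B)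
    (h : IsKleinFour (Subgroup.center B)) : IsKleinFour (Subgroup.center A) where
  card_four := by
    rw [Nat.card_congr (centerEquivOfMulEquiv e).toEquiv]; exact h.card_four
  exponent_two := by
    rw [Monoid.exponent_eq_of_mulEquiv (centerEquivOfMulEquiv e)]; exact h.exponent_two

variable {F : Type*} [Field F] [CharP F 2] [Fintype F]

theorem Ct_iso_P320 (hF : Fintype.card F = 4 ^ 2) : Nonempty (Ct hF ≃* P320) := by
  haveI : Finite (Ct hF) := Nat.finite_of_card_ne_zero (by rw [card_Ct hF]; norm_num)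
  apply iso_P320_of_hyp (card_Ct hF)
  · rw [Nat.card_congr (commEquiv hF).toEquiv, (usuCoord hF).card_eq]; norm_num
  · exact isKleinFour_center_of_mulEquiv (commEquiv hF) ((usuCoord hF).isKleinFour_center rfl)

theorem tI_ne_one (hF : Fintype.card F = 4 ^ 2) : tI hF ≠ 1 := by
  intro h
  have := congrArg (fun g => mat g 0 1) h
  simp only [mat_tI, mat_one] at this
  simp at this

theorem tI_sq (hF : Fintype.card F = 4 ^ 2) : tI hF ^ 2 = 1 := by
  rw [pow_two]
  unfold tI
  rw [xU_mul, ← xU_zero hF]
  apply xU_congr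
  · simp
  · simp [CharTwo.add_self_eq_zero]

theorem orderOf_tI (hF : Fintype.card F = 4 ^ 2) : orderOf (tI hF) = 2 :=
  orderOf_eq_prime (tI_sq hF) (tI_ne_one hF)

theorem center_SU_eq_bot (hF : Fintype.card F = 4 ^ 2) :
    Subgroup.center (Cfsg.SU 3 F 4) = ⊥ := by
  apply Subgroup.eq_bot_of_card_eq
  rw [Cfsg.Agent.S0279.result hF 3 le_rfl]
  norm_num

/-- the projection from `SU₃(4)` onto `PSU₃(4)` is an isomorphism -/
noncomputable def suEquivPsu (hF : Fintype.card F = 4 ^ 2) : Cfsg.SU 3 F 4 ≃* Cfsg.PSU 3 F 4 :=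
  MulEquiv.ofBijective (QuotientGroup.mk' (Subgroup.center (Cfsg.SU 3 F 4)))
    ⟨by
      rw [← MonoidHom.ker_eq_bot_iff, QuotientGroup.ker_mk', center_SU_eq_bot hF],
     QuotientGroup.mk'_surjective _⟩

theorem exists_involution_centralizer_iso (hF : Fintype.card F = 4 ^ 2) :
    ∃ t : Cfsg.PSU 3 F 4, orderOf t = 2 ∧
      Nonempty (P320 ≃* Subgroup.centralizer ({t} : Set (Cfsg.PSU 3 F 4))) := by
  set e := suEquivPsu hF with he
  refine ⟨e (tI hF), ?_, ?_⟩
  · rw [MulEquiv.orderOf_eq]; exact orderOf_tI hF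
  · obtain ⟨φ⟩ := Ct_iso_P320 hF
    have hmap : (Ct hF).map e.toMonoidHom =
        Subgroup.centralizer ({e (tI hF)} : Set (Cfsg.PSU 3 F 4)) := by
      ext y
      constructor
      · rintro ⟨g, hg, rfl⟩
        rw [Subgroup.mem_centralizer_iff]
        intro u hu
        rw [Set.mem_singleton_iff] at hu
        rw [hu]
        have := (mem_Ct hF g).mp hg
        show e (tI hF) * e g = e g * e (tI hF)
        rw [← map_mul, ← map_mul, this]
      · intro hy
        rw [Subgroup.mem_centralizer_iff] at hy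
        have h1 := hy _ rfl
        refine ⟨e.symm y, ?_, by simp⟩
        rw [SetLike.mem_coe, mem_Ct]
        apply e.injective
        rw [map_mul, map_mul, e.apply_symm_apply]
        exact h1.symm
    exact ⟨φ.symm.trans (((Ct hF).equivMapOfInjective e.toMonoidHom e.injective).trans
      (MulEquiv.subgroupCongr hmap))⟩

end Cfsg.Agent.Lib.Helper5.C320
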